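import Cfsg.Agent.BlocksB.Star.Nilpotent
import Cfsg.Agent.BlocksB.RankOne
import Cfsg.Agent.Blocks.NormalSub
import Cfsg.Agent.Blocks.MinMax
import Cfsg.Agent.Blocks.BrauerFeit

/-!
# Values at an element whose centralizer in the defect group is central of order four
-/

set_option autoImplicit false
set_option linter.style.haveILetI false
set_option linter.unusedSectionVars false

namespace CfsgLib.DihDefect

open Cfsg Finset CfsgLib.Block CfsgLib.Block.Chr CfsgLib.BrauerPairs CfsgLib.BlockStar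
  CfsgLib.BlockB CfsgLib.Char
open scoped ComplexConjugate
open scoped Classical

universe u

variable {M : Ideal AlgInt} [M.IsPrime] [Fact (Nat.Prime 2)] [CharP (Residue M) 2]
  {G : Type u} [Group G] [Fintype G]

local notation "𝕜" => Residue M
local notation "Z[" x "]" => Subgroup.zpowers x
local notation "C[" Q "]" => Subgroup.centralizer (SetLike.coe Q)

variable {B : Set (IrrCharacter G)} {P : Subgroup G} {e : MonoidAlgebra (Residue M) G}

/-- **The value is an integer of the least valuation.** -/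
theorem val_central_four (hM : IsPModular 2 M) (hB : IsPBlock M B) (hnil : IsNil 2 (idem M B))
    (hmax : IsMaxPair 2 (idem M B) (P, e)) {χ : IrrCharacter G} (hχ : χ ∈ B)
    (h0 : blockHeight 2 B (χ : G → ℂ) = 0) {u : G} (hu : u ∈ P) (hord : orderOf u = 2)
    (h4 : Nat.card (P ⊓ C[Z[u]] : Subgroup G) = 4)
    (hcen : ∀ q ∈ (P ⊓ C[Z[u]] : Subgroup G), ∀ g ∈ C[Z[u]], q * g = g * q) :
    ∃ K : ℤ, val χ u 1 (subBlk 2 P e u) = (K : ℂ) ∧ K ≠ 0 ∧
      K.natAbs.factorization 2 + 2 = (Nat.card C[Z[u]]).factorization 2 := by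
  letI := irrFintype (G := C[Z[u]])
  letI := irrFintype (G := G)
  have hP : IsPair 2 (P, e) := hmax.1.1
  obtain ⟨c, hc, hcE⟩ : ∃ c : Set (IrrCharacter C[Z[u]]), IsPBlock M c ∧
      idemIn M C[Z[u]] c = subBlk 2 P e u :=
    exists_idemIn_eq hM (PLE.isPair (subBlk_ple hP hu) hP).2
  haveI : Fintype c := Fintype.ofFinite c
  have hd2 : blockDefect 2 c = 2 := by
    have h1 := card_inf_centralizer hM hB hnil hmax hu hc hcE
    rw [h4, show (4 : ℕ) = 2 ^ 2 by norm_num] at h1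
    exact (Nat.pow_right_injective le_rfl h1).symm
  obtain ⟨D, hD⟩ := exists_defectGroup hc hM
  set Q : Subgroup C[Z[u]] := (P ⊓ C[Z[u]] : Subgroup G).subgroupOf C[Z[u]] with hQ
  have hQc : Q ≤ Subgroup.center C[Z[u]] := fun q hq => Subgroup.mem_center_iff.2 fun g =>
    Subtype.ext (hcen _ (Subgroup.mem_subgroupOf.1 hq) _ g.2).symm
  haveI : Q.Normal := ⟨fun q hq g => by
    rwa [Subgroup.mem_center_iff.1 (hQc hq) g, mul_inv_cancel_right]⟩
  have hQcard : Nat.card Q = 4 := by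
    rw [← h4]; exact Nat.card_congr (Subgroup.subgroupOfEquivOfLe inf_le_right).toEquiv
  have hQD : Q ≤ D := normal_le_defectGroup hM hc hD Q (IsPGroup.of_card (n := 2) (by rw [hQcard]; norm_num))
  have hDQ : Q = D := Subgroup.eq_of_le_of_card_ge hQD
    (by rw [hQcard, card_defectGroup hM hc hD, hd2]; norm_num)
  have hcen' : D ≤ Subgroup.center C[Z[u]] := hDQ ▸ hQc
  have hself := redInt_self_of_central hM hc hD hcen'
  have hl := rank_one_of_central hM hc hD hcen'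
  have hk : Fintype.card c = 4 := by
    have h1 := sum_redInt_diag hM hc
    simp only [hself, sum_const, nsmul_one, hl, hd2] at h1
    norm_num at h1
    rw [← Nat.card_eq_fintype_card, Nat.card_coe_set_eq]
    exact_mod_cast h1
  obtain ⟨φ, d, -, hd, hsq⟩ := rank_one_decomposition hM hc hl
  rw [hd2, finsum_mem_eq_sum_of_inter_support_eq (t := univ.filter (· ∈ c)) _ (by ext; simp),
    sum_subtype (univ.filter (· ∈ c)) (p := (· ∈ c)) (by simp) (fun ξ => d ξ ^ 2)] at hsq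
  have h1reg : IsPRegular 2 (1 : C[Z[u]]) := by simp [IsPRegular]
  have hdpos : ∀ ξ : c, 1 ≤ d ξ.1 := fun ξ => Nat.one_le_iff_ne_zero.2 fun e0 => by
    have h1 := hd ξ.1 ξ.2 1 h1reg
    rw [e0, Nat.cast_zero, zero_mul] at h1
    exact irr_one_ne_zero ξ.1 h1
  have hd1 : ∀ ξ : c, d ξ.1 = 1 := fun ξ => by
    have h1 : ∀ η ∈ (univ : Finset c), (1 : ℕ) ≤ d η.1 ^ 2 := fun η _ => Nat.one_le_pow _ _ (hdpos η)
    have h2 : ∀ η ∈ (univ : Finset c), (1 : ℕ) = d η.1 ^ 2 :=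
      (sum_eq_sum_iff_of_le h1).1 (by rw [hsq, sum_const, card_univ, hk]; norm_num)
    exact (pow_left_inj₀ (Nat.zero_le _) zero_le_one two_ne_zero).1
      ((h2 ξ (mem_univ _)).symm.trans (one_pow 2).symm)
  obtain ⟨ξ₀, hξ₀, hξ0⟩ := exists_height_zero hM hc
  have hsame : ∀ ξ ∈ c, ∀ x : C[Z[u]], IsPRegular 2 x →
      (ξ : C[Z[u]] → ℂ) x = (ξ₀ : C[Z[u]] → ℂ) x := fun ξ hξ x hx => by
    rw [hd ξ hξ x hx, hd ξ₀ hξ₀ x hx, hd1 ⟨ξ, hξ⟩, hd1 ⟨ξ₀, hξ₀⟩]
  set u' : C[Z[u]] := ⟨u, mem_cz.2 rfl⟩ with hu'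
  have huu : u' * u' = 1 := Subtype.ext (by
    show u * u = 1; rw [← pow_two, ← hord, pow_orderOf_eq_one])
  have hucen : ∀ g : C[Z[u]], u' * g = g * u' := fun g => Subtype.ext (mem_cz.1 g.2).symm
  have hres : IsCharacter C[Z[u]] fun s : C[Z[u]] => (χ : G → ℂ) s :=
    IsCharacter.restrict (isCharacter_irr χ) _
  -- the coefficients are integers
  have hint : ∀ ξ : IrrCharacter C[Z[u]], ∃ n : ℤ,
      classInner (secFun C[Z[u]] u χ) (ξ : C[Z[u]] → ℂ) = (n : ℂ) := by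
    intro ξ
    obtain ⟨m, hm⟩ := IsCharacter.exists_classInner_eq_natCast hres ξ.2
    obtain ⟨w, -, hw⟩ := exists_central_scalar ξ.2 (z := u') hucen
    have hw1 : w = 1 ∨ w = -1 := by
      have h1 := hw 1
      have h2 := hw u'
      rw [mul_one] at h1
      rw [huu, h1, ← mul_assoc] at h2
      exact mul_self_eq_one_iff.1 (mul_right_cancel₀ (irr_one_ne_zero ξ)
        (h2.symm.trans (one_mul _).symm))
    have he : classInner (secFun C[Z[u]] u χ) (ξ : C[Z[u]] → ℂ) =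
        w * classInner (fun s : C[Z[u]] => (χ : G → ℂ) s) (ξ : C[Z[u]] → ℂ) := by
      simp only [CfsgLib.Char.classInner_def, mul_sum]
      refine Fintype.sum_equiv (Equiv.mulLeft u') _ _ fun g => ?_
      simp only [Equiv.coe_mulLeft, secFun, hw, map_mul]
      rw [show conj w = w by rcases hw1 with e1 | e1 <;> simp [e1],
        show ((u' * g : C[Z[u]]) : G) = u * (g : G) from rfl]
      have hww : w * w = 1 := by rcases hw1 with e1 | e1 <;> simp [e1]
      linear_combination (-((Nat.card C[Z[u]] : ℂ)⁻¹ * (χ : G → ℂ) (u * (g : G)) *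
        conj ((ξ : C[Z[u]] → ℂ) g))) * hww
    rw [he, hm]
    rcases hw1 with e1 | e1
    · exact ⟨m, by rw [e1]; simp⟩
    · exact ⟨-(m : ℤ), by rw [e1]; simp⟩
  choose n hn using hint
  set A : ℤ := ∑ ξ ∈ univ.filter (· ∈ c), n ξ with hA
  have hsub : subPart 2 c u χ = fun s => (A : ℂ) * regPart 2 (ξ₀ : C[Z[u]] → ℂ) s := funext fun s => by
    rw [subPart_eq_regPart hM hc]
    by_cases h2 : 2 ∣ orderOf s
    · rw [regPart_of_dvd h2, regPart_of_dvd h2, mul_zero]
    · rw [regPart_of_not_dvd h2, regPart_of_not_dvd h2, blockPart_eq_sum_inner, hA, Int.cast_sum,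
        sum_mul]
      exact sum_congr rfl fun ξ hξ => by rw [hn, hsame ξ (mem_filter.1 hξ).2 s h2]
  have hquarter : classInner (regPart 2 (ξ₀ : C[Z[u]] → ℂ)) (regPart 2 (ξ₀ : C[Z[u]] → ℂ)) =
      (4 : ℂ)⁻¹ := by
    have h1 := redInt_eq_regMat hM hc ⟨ξ₀, hξ₀⟩ ⟨ξ₀, hξ₀⟩
    rw [hself, Int.cast_one, hd2, regMat] at h1
    have h2 : classInner (regPart 2 (ξ₀ : C[Z[u]] → ℂ)) (regPart 2 (ξ₀ : C[Z[u]] → ℂ)) =
        classInner (regPart 2 (ξ₀ : C[Z[u]] → ℂ)) (ξ₀ : C[Z[u]] → ℂ) := by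
      simp only [CfsgLib.Char.classInner_def]
      refine congrArg _ (sum_congr rfl fun g _ => ?_)
      by_cases hg : 2 ∣ orderOf g
      · rw [regPart_of_dvd hg, zero_mul, zero_mul]
      · rw [regPart_of_not_dvd hg]
    rw [h2]
    refine eq_inv_of_mul_eq_one_right ?_
    rw [h1]
    norm_num
  have hA2 : A * A = 1 := by
    have h1 := aFun_eq_one hM hB hnil hmax hχ h0 hu
    rw [aFun, h4, ← hcE, contribR_idemIn hM χ χ (mem_pSet_of_mem hP hu) hc, contrib, hsub] at h1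
    have h2 : classInner (fun s => (A : ℂ) * regPart 2 (ξ₀ : C[Z[u]] → ℂ) s)
        (fun s => (A : ℂ) * regPart 2 (ξ₀ : C[Z[u]] → ℂ) s) = (A : ℂ) * A * (4 : ℂ)⁻¹ := by
      rw [← hquarter]
      simp only [CfsgLib.Char.classInner_def, mul_sum, map_mul, map_intCast]
      exact sum_congr rfl fun g _ => by ring
    rw [h2] at h1
    have h3 : ((A * A : ℤ) : ℂ) = ((1 : ℤ) : ℂ) := by
      rw [Int.cast_one, ← h1]; push_cast; ring
    exact_mod_cast h3
  have hs : PElt 2 u (1 : G) := ⟨mem_pSet.1 (mem_pSet_of_mem hP hu),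
    by rw [orderOf_one]; exact Nat.prime_two.not_dvd_one, Commute.one_right _⟩
  refine ⟨A * (charDegree (ξ₀ : C[Z[u]] → ℂ) : ℤ), ?_, ?_, ?_⟩
  · rw [← hcE, val_idemIn hM χ hs hc, hsub]
    show (A : ℂ) * regPart 2 (ξ₀ : C[Z[u]] → ℂ) 1 = _
    rw [regPart_of_not_dvd (by rw [orderOf_one]; exact Nat.prime_two.not_dvd_one), (irr_one ξ₀).1]
    push_cast
    ring
  · exact mul_ne_zero (fun e0 => by rw [e0] at hA2; norm_num at hA2)
      (Int.natCast_ne_zero.2 (irr_one ξ₀).2.ne')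
  · rw [Int.natAbs_mul, Int.natAbs_natCast,
      show A.natAbs = 1 by rcases mul_self_eq_one_iff.1 hA2 with e1 | e1 <;> simp [e1], one_mul]
    rw [factorization_degree hM hc hξ₀, hξ0, hd2, add_zero, Nat.sub_add_cancel]
    have h1 := blockDefect_le (p := 2) c
    omega

end CfsgLib.DihDefect
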