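import Cfsg.Agent.BlocksB.DihedralDefect.Pairs
import Cfsg.Agent.Blocks.CharExtra
import Cfsg.Agent.Blocks.SectionCount
import Cfsg.Agent.BlocksB.Subsection

/-!
# Pairs of involutions in the section of a central involution of a centralizer
-/

set_option autoImplicit false
set_option linter.style.haveILetI false
set_option linter.unusedSectionVars false

namespace CfsgLib.DihDefect

open Cfsg Finset CfsgLib.Block CfsgLib.Block.Chr CfsgLib.BrauerPairs CfsgLib.BlockStar
  CfsgLib.BlockB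
open scoped ComplexConjugate
open scoped Classical

universe u

variable {G : Type u} [Group G] [Fintype G]

local notation "Z[" x "]" => Subgroup.zpowers x
local notation "C[" Q "]" => Subgroup.centralizer (SetLike.coe Q)

/-- The number of ways to write an element as a product of two members of a set. -/
noncomputable def pairCount (T : Finset G) (g : G) : ℂ :=
  ((T.filter fun u => u⁻¹ * g ∈ T).card : ℂ)

/-- The sum of a character over a set. -/
noncomputable def setSum (T : Finset G) (χ : IrrCharacter G) : ℂ := ∑ u ∈ T, (χ : G → ℂ) u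

/-- The number of pairs by the characters. -/
theorem pairCount_eq [Fintype (IrrCharacter G)] (T : Finset G)
    (hT : ∀ g ∈ T, ∀ x : G, x * g * x⁻¹ ∈ T) (hinv : ∀ g ∈ T, g⁻¹ = g) (g : G) :
    pairCount T g = (Nat.card G : ℂ)⁻¹ *
      ∑ χ : IrrCharacter G, setSum T χ ^ 2 / (χ : G → ℂ) 1 * (χ : G → ℂ) g := by
  let a : G → ℂ := fun g => if g ∈ T then 1 else 0
  let m : G → ℂ := fun g => ∑ u : G, a u * a (u⁻¹ * g)
  have ha : IsClassFunction G a := fun g x => by
    have : x * g * x⁻¹ ∈ T ↔ g ∈ T := ⟨fun h => by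
      have := hT _ h x⁻¹; rwa [show x⁻¹ * (x * g * x⁻¹) * x⁻¹⁻¹ = g by group] at this, fun h => hT g h x⟩
    simp only [a, this]
  have hm : IsClassFunction G m := isClassFunction_conv ha ha
  have hmval : ∀ g, m g = pairCount T g := fun g => by
    rw [pairCount, card_filter, Nat.cast_sum]
    simp only [m, a, ite_mul, one_mul, zero_mul, Nat.cast_ite, Nat.cast_one, Nat.cast_zero]
    rw [← sum_filter, filter_mem_eq_inter, univ_inter]
  have hS : ∀ χ : IrrCharacter G, ∑ g : G, a g * (χ : G → ℂ) g = setSum T χ := fun χ => by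
    simp only [a, ite_mul, one_mul, zero_mul, setSum]
    rw [← sum_filter, filter_mem_eq_inter, univ_inter]
  have hreal : ∀ χ : IrrCharacter G, conj (setSum T χ) = setSum T χ := fun χ => by
    rw [setSum, map_sum]
    exact sum_congr rfl fun u hu => by rw [conj_irr, hinv u hu]
  have hinner : ∀ χ : IrrCharacter G, classInner m (χ : G → ℂ) =
      (Nat.card G : ℂ)⁻¹ * (setSum T χ ^ 2 / (χ : G → ℂ) 1) := by
    intro χ
    have h1 := class_mul χ ha a
    rw [hS χ] at h1
    have hs : ∑ g : G, m g * (χ : G → ℂ) g =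
        ∑ g : G, ∑ k : G, a g * a k * (χ : G → ℂ) (g * k) := by
      simp only [m, sum_mul]
      rw [sum_comm]
      refine sum_congr rfl fun u _ => Fintype.sum_equiv (Equiv.mulLeft u⁻¹) _ _ fun g => ?_
      simp [mul_assoc]
    have hin : classInner m (χ : G → ℂ) =
        (Nat.card G : ℂ)⁻¹ * conj (∑ g : G, m g * (χ : G → ℂ) g) := by
      rw [classInner, map_sum]
      congr 1
      exact sum_congr rfl fun g _ => by rw [map_mul, hmval, pairCount, map_natCast]
    rw [hin, hs, eq_div_iff (irr_one_ne_zero χ) |>.2 h1, map_div₀, map_mul, hreal, (irr_one χ).1,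
      map_natCast, sq]
  rw [← hmval, classFun_expand hm g, mul_sum]
  exact sum_congr rfl fun χ _ => by rw [hinner χ]; ring

/-- The involutions. -/
noncomputable def invs (K : Type u) [Group K] [Fintype K] : Finset K :=
  univ.filter fun g => orderOf g = 2

/-- The involutions of the centralizer other than the central one. -/
noncomputable def invs' {z : G} [Fintype C[Z[z]]] : Finset C[Z[z]] :=
  univ.filter fun g => orderOf g = 2 ∧ (g : G) ≠ z

theorem invs_conj {g : G} (hg : g ∈ invs G) (x : G) : x * g * x⁻¹ ∈ invs G :=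
  mem_filter.2 ⟨mem_univ _, (orderOf_injective (MulAut.conj x).toMonoidHom
    (MulAut.conj x).injective g).trans (mem_filter.1 hg).2⟩

theorem inv_of_two {K : Type*} [Group K] {g : K} (hg : orderOf g = 2) : g⁻¹ = g :=
  inv_eq_of_mul_eq_one_right (by rw [← pow_two, ← hg, pow_orderOf_eq_one])

theorem invs'_conj {z : G} [Fintype C[Z[z]]] {g : C[Z[z]]} (hg : g ∈ invs' (z := z))
    (x : C[Z[z]]) : x * g * x⁻¹ ∈ invs' (z := z) := by
  obtain ⟨h1, h2⟩ := (mem_filter.1 hg).2
  refine mem_filter.2 ⟨mem_univ _,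
    (orderOf_injective (MulAut.conj x).toMonoidHom (MulAut.conj x).injective g).trans h1, fun e => h2 ?_⟩
  have hx : (x : G) * z = z * x := mem_cz.1 x.2
  calc (g : G) = (x : G)⁻¹ * ((x * g * x⁻¹ : C[Z[z]]) : G) * x := by
        simp only [Subgroup.coe_mul, Subgroup.coe_inv]; group
    _ = (x : G)⁻¹ * (z * x) := by rw [e]; group
    _ = z := by rw [← hx, inv_mul_cancel_left]

/-- The pairs in the section lie in the centralizer. -/
theorem pairCount_section {z : G} (hz : orderOf z = 2) [Fintype C[Z[z]]] {s : C[Z[z]]}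
    (hs : ¬ 2 ∣ orderOf s) :
    pairCount (invs G) (z * (s : G)) = pairCount (invs' (z := z)) (⟨z, mem_cz.2 rfl⟩ * s) := by
  have hzz : z * z = 1 := by rw [← pow_two, ← hz, pow_orderOf_eq_one]
  have hcomm : Commute z (s : G) := (mem_cz.1 s.2).symm
  have hso : ¬ 2 ∣ orderOf (s : G) := by rwa [Subgroup.orderOf_coe]
  rw [pairCount, pairCount, Nat.cast_inj]
  have key : ∀ u : G, u ∈ invs G → u⁻¹ * (z * s) ∈ invs G →
      u ∈ C[Z[z]] ∧ u ≠ z ∧ u⁻¹ * (z * s) ≠ z := by
    intro u hu hv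
    have ho := (mem_filter.1 hu).2
    have hv' := (mem_filter.1 hv).2
    set g := z * (s : G) with hg
    have hu' : u * u = 1 := by rw [← pow_two, ← ho, pow_orderOf_eq_one]
    have hinvg : u * g * u⁻¹ = g⁻¹ := by
      rw [eq_inv_iff_mul_eq_one]
      calc u * g * u⁻¹ * g = u * u * ((u⁻¹ * g) * (u⁻¹ * g)) := by group
        _ = 1 := by rw [hu', ← pow_two (u⁻¹ * g), ← hv', pow_orderOf_eq_one, mul_one]
    have hpow : g ^ orderOf (s : G) = z := by
      obtain ⟨m, hm⟩ := Nat.odd_iff.2 (Nat.two_dvd_ne_zero.1 hso)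
      rw [hg, hcomm.mul_pow, pow_orderOf_eq_one, mul_one, hm, pow_succ, pow_mul,
        show z ^ 2 = 1 by rw [pow_two, hzz], one_pow, one_mul]
    refine ⟨mem_cz.2 (mul_inv_eq_iff_eq_mul.1 ?_), fun e => hso ?_, fun e => hso ?_⟩
    · calc u * z * u⁻¹ = (u * g * u⁻¹) ^ orderOf (s : G) := by rw [conj_pow, hpow]
        _ = z := by rw [hinvg, inv_pow, hpow, inv_eq_of_mul_eq_one_right hzz]
    · rw [show (s : G) = u⁻¹ * g by rw [e, hg, inv_mul_cancel_left], hv']
    · rw [show (s : G) = u from mul_left_cancel (a := z) ?_, ho]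
      rw [← hg, inv_mul_eq_iff_eq_mul.1 e]
      have huz : u * z = z * u := by
        have h1 : u * z * u⁻¹ = z := by
          calc u * z * u⁻¹ = (u * g * u⁻¹) ^ orderOf (s : G) := by rw [conj_pow, hpow]
            _ = z := by rw [hinvg, inv_pow, hpow, inv_eq_of_mul_eq_one_right hzz]
        exact mul_inv_eq_iff_eq_mul.1 h1
      exact huz
  refine (card_bij (fun (u : C[Z[z]]) _ => (u : G)) ?_ ?_ ?_).symm
  · intro u hu
    simp only [invs', invs, mem_filter, mem_univ, true_and] at hu ⊢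
    obtain ⟨h1, h2⟩ := hu
    refine ⟨by rw [Subgroup.orderOf_coe]; exact h1.1, ?_⟩
    rw [show (u : G)⁻¹ * (z * (s : G)) = ((u⁻¹ * (⟨z, mem_cz.2 rfl⟩ * s) : C[Z[z]]) : G) from rfl,
      Subgroup.orderOf_coe]
    exact h2.1
  · exact fun _ _ _ _ e => Subtype.ext e
  · intro u hu
    obtain ⟨h1, h2⟩ := mem_filter.1 hu
    obtain ⟨hL, hne, hne'⟩ := key u h1 h2
    refine ⟨⟨u, hL⟩, ?_, rfl⟩
    simp only [invs', mem_filter, mem_univ, true_and]
    refine ⟨⟨?_, hne⟩, ?_, hne'⟩
    · rw [← Subgroup.orderOf_coe]; exact (mem_filter.1 h1).2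
    · rw [← Subgroup.orderOf_coe]; exact (mem_filter.1 h2).2

variable {M : Ideal AlgInt} [M.IsPrime] [Fact (Nat.Prime 2)] [CharP (Residue M) 2]

local notation "𝕜" => Residue M

/-- **The counts in a block of the centralizer.** -/
theorem sum_block_eq (hM : IsPModular 2 M) {z : G} (hz : orderOf z = 2) [Fintype C[Z[z]]]
    [Fintype (IrrCharacter G)] [Fintype (IrrCharacter C[Z[z]])]
    {f : Set (IrrCharacter C[Z[z]])} (hf : IsPBlock M f) :
    (Nat.card G : ℂ)⁻¹ * ∑ χ : IrrCharacter G, setSum (invs G) χ ^ 2 / (χ : G → ℂ) 1 *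
        val χ z 1 (idemIn M C[Z[z]] f) =
      (Nat.card C[Z[z]] : ℂ)⁻¹ * ∑ ξ ∈ univ.filter (· ∈ f),
        setSum (invs' (z := z)) ξ ^ 2 / (ξ : C[Z[z]] → ℂ) 1 *
          (ξ : C[Z[z]] → ℂ) ⟨z, mem_cz.2 rfl⟩ := by
  set z' : C[Z[z]] := ⟨z, mem_cz.2 rfl⟩ with hz'
  have hs : PElt 2 z (1 : G) := ⟨⟨1, by rw [pow_one, ← hz, pow_orderOf_eq_one]⟩,
    by rw [orderOf_one]; exact Nat.prime_two.not_dvd_one, Commute.one_right _⟩
  have hfun : regPart 2 (fun s : C[Z[z]] => pairCount (invs G) (z * (s : G))) =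
      regPart 2 fun s : C[Z[z]] => pairCount (invs' (z := z)) (z' * s) := funext fun s => by
    by_cases h2 : 2 ∣ orderOf s
    · rw [regPart_of_dvd h2, regPart_of_dvd h2]
    · rw [regPart_of_not_dvd h2, regPart_of_not_dvd h2, pairCount_section hz h2]
  have hG : regPart 2 (fun s : C[Z[z]] => pairCount (invs G) (z * (s : G))) =
      ∑ χ : IrrCharacter G, ((Nat.card G : ℂ)⁻¹ * (setSum (invs G) χ ^ 2 / (χ : G → ℂ) 1)) •
        regPart 2 (secFun C[Z[z]] z χ) := funext fun s => by
    rw [Finset.sum_apply]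
    by_cases h2 : 2 ∣ orderOf s
    · simp [regPart_of_dvd h2]
    · simp only [regPart_of_not_dvd h2, Pi.smul_apply, smul_eq_mul, secFun]
      rw [pairCount_eq _ (fun g hg x => invs_conj hg x)
        (fun g hg => inv_of_two (mem_filter.1 hg).2), mul_sum]
      exact sum_congr rfl fun χ _ => by ring
  have hcent : ∀ g : C[Z[z]], z' * g = g * z' := fun g => Subtype.ext (mem_cz.1 g.2).symm
  have hscal : ∀ (ξ : IrrCharacter C[Z[z]]) (s : C[Z[z]]), (ξ : C[Z[z]] → ℂ) (z' * s) =
      (ξ : C[Z[z]] → ℂ) z' / (ξ : C[Z[z]] → ℂ) 1 * (ξ : C[Z[z]] → ℂ) s := fun ξ s => by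
    obtain ⟨w, -, hw⟩ := exists_central_scalar ξ.2 (z := z') hcent
    have h1 := hw 1
    rw [mul_one] at h1
    rw [hw s, h1, mul_div_assoc, div_self (irr_one_ne_zero ξ), mul_one]
  have hL : regPart 2 (fun s : C[Z[z]] => pairCount (invs' (z := z)) (z' * s)) =
      ∑ ξ : IrrCharacter C[Z[z]], ((Nat.card C[Z[z]] : ℂ)⁻¹ *
          (setSum (invs' (z := z)) ξ ^ 2 / (ξ : C[Z[z]] → ℂ) 1) *
          ((ξ : C[Z[z]] → ℂ) z' / (ξ : C[Z[z]] → ℂ) 1)) •
        regPart 2 (ξ : C[Z[z]] → ℂ) := funext fun s => by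
    rw [Finset.sum_apply]
    by_cases h2 : 2 ∣ orderOf s
    · simp [regPart_of_dvd h2]
    · simp only [regPart_of_not_dvd h2, Pi.smul_apply, smul_eq_mul]
      rw [pairCount_eq _ (fun g hg x => invs'_conj hg x)
        (fun g hg => inv_of_two (mem_filter.1 hg).2.1), mul_sum]
      exact sum_congr rfl fun ξ _ => by rw [hscal]; ring
  have key := congrArg (fun F => blockPartLin f F (1 : C[Z[z]])) (hG.symm.trans (hfun.trans hL))
  simp only [map_sum, map_smul, Finset.sum_apply, Pi.smul_apply, smul_eq_mul,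
    blockPartLin_apply] at key
  have h1 : ∀ χ : IrrCharacter G, blockPart f (regPart 2 (secFun C[Z[z]] z χ)) 1 =
      val χ z 1 (idemIn M C[Z[z]] f) := fun χ => by
    rw [val_idemIn hM χ hs hf]; rfl
  have h2 : ∀ ξ : IrrCharacter C[Z[z]], blockPart f (regPart 2 (ξ : C[Z[z]] → ℂ)) 1 =
      if ξ ∈ f then (ξ : C[Z[z]] → ℂ) 1 else 0 := fun ξ => by
    rw [blockPart_regPart hM hf, regPart_of_not_dvd
      (by rw [orderOf_one]; exact Nat.prime_two.not_dvd_one), blockPart_irr]
    split_ifs <;> rfl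
  simp only [h1, h2] at key
  rw [mul_sum, mul_sum, sum_filter]
  calc ∑ χ : IrrCharacter G, (Nat.card G : ℂ)⁻¹ * (setSum (invs G) χ ^ 2 / (χ : G → ℂ) 1 *
        val χ z 1 (idemIn M C[Z[z]] f)) = _ :=
        (sum_congr rfl fun χ _ => (mul_assoc _ _ _).symm).trans key
    _ = _ := by
      refine sum_congr rfl fun ξ _ => ?_
      split_ifs
      · have := irr_one_ne_zero ξ
        field_simp
      · rw [mul_zero]

end CfsgLib.DihDefect
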