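import Cfsg.Agent.BlocksB.Star.Nilpotent
import Cfsg.Agent.BlocksB.RegRank

/-!
# Quadratic forms of the subsections and the orbits of pairs
-/

set_option autoImplicit false
set_option linter.style.haveILetI false
set_option linter.unusedSectionVars false

namespace CfsgLib.DihDefect

open Cfsg Finset CfsgLib.Block CfsgLib.Block.Chr CfsgLib.BrauerPairs CfsgLib.BlockStar
  CfsgLib.BlockB
open scoped ComplexConjugate
open scoped Classical

universe u

variable {M : Ideal AlgInt} [M.IsPrime] {p : ℕ} [Fact p.Prime] [CharP (Residue M) p]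
  {G : Type u} [Group G] [Fintype G]

local notation "𝕜" => Residue M
local notation "Z[" x "]" => Subgroup.zpowers x
local notation "C[" Q "]" => Subgroup.centralizer (SetLike.coe Q)

variable {B : Set (IrrCharacter G)} [Fintype B]

/-- The form of a subsection on the combinations of the members of a block. -/
noncomputable def qf (p : ℕ) [Fact p.Prime] [CharP (Residue M) p] (co : B → ℂ) (x : G)
    (f : MonoidAlgebra 𝕜 G) : ℝ :=
  (Nat.card C[Z[x]] : ℝ)⁻¹ * ∑ s ∈ univ.filter (fun s : G => s ∈ C[Z[x]] ∧ ¬ p ∣ orderOf s),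
    ‖∑ χ : B, co χ * val χ.1 x s f‖ ^ 2

theorem qf_nonneg (co : B → ℂ) (x : G) (f : MonoidAlgebra 𝕜 G) : 0 ≤ qf p co x f :=
  mul_nonneg (inv_nonneg.2 (Nat.cast_nonneg _)) (sum_nonneg fun _ _ => sq_nonneg _)

theorem qf_eq (co : B → ℂ) (x : G) (f : MonoidAlgebra 𝕜 G) :
    (qf p co x f : ℂ) = ∑ χ : B, ∑ ψ : B, co χ * conj (co ψ) * contribR p χ.1 ψ.1 x f := by
  rw [qf, Complex.ofReal_mul, Complex.ofReal_inv, Complex.ofReal_natCast, Complex.ofReal_sum,
    mul_sum, sum_congr rfl fun s _ => show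
      ((Nat.card C[Z[x]] : ℂ))⁻¹ * (((‖∑ χ : B, co χ * val χ.1 x s f‖ ^ 2 : ℝ)) : ℂ) =
        ∑ χ : B, ∑ ψ : B, (Nat.card C[Z[x]] : ℂ)⁻¹ *
          (co χ * val χ.1 x s f * conj (co ψ * val ψ.1 x s f)) by
        rw [Complex.ofReal_pow, ← Complex.mul_conj', map_sum, sum_mul_sum, mul_sum]
        exact sum_congr rfl fun χ _ => mul_sum _ _ _,
    sum_comm]
  refine sum_congr rfl fun χ _ => ?_
  rw [sum_comm]
  refine sum_congr rfl fun ψ _ => ?_
  simp only [contribR, mul_sum, map_mul]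
  exact sum_congr rfl fun s _ => by ring

theorem sum_eq_zero_of_qf {co : B → ℂ} {x : G} {f : MonoidAlgebra 𝕜 G} (h : qf p co x f = 0)
    {s : G} (hs : s ∈ C[Z[x]]) (hreg : ¬ p ∣ orderOf s) :
    ∑ χ : B, co χ * val χ.1 x s f = 0 := by
  rw [qf, mul_eq_zero] at h
  have h1 := (sum_eq_zero_iff_of_nonneg fun _ _ => sq_nonneg _).1
    (h.resolve_left (inv_ne_zero (Nat.cast_ne_zero.2 Nat.card_pos.ne'))) s
    (mem_filter.2 ⟨mem_univ _, hs, hreg⟩)
  exact norm_eq_zero.1 ((pow_eq_zero_iff two_ne_zero).1 h1)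

theorem qf_conj (hM : IsPModular p M) (co : B → ℂ) {x : G} (hx : x ∈ pSet p G)
    {f : MonoidAlgebra 𝕜 G} (hf : IsBlk 𝕜 C[Z[x]] f) (g : G) :
    qf p co (g * x * g⁻¹) (cj 𝕜 g f) = qf p co x f := by
  apply Complex.ofReal_injective
  rw [qf_eq, qf_eq]
  exact sum_congr rfl fun χ _ => sum_congr rfl fun ψ _ => by rw [contribR_conj hM _ _ hx hf]

/-- The pairs on cyclic subgroups. -/
noncomputable def pairSet (p : ℕ) (M : Ideal AlgInt) [M.IsPrime] (G : Type u) [Group G]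
    [Fintype G] : Finset ((_ : G) × MonoidAlgebra (Residue M) G) :=
  (pSet p G).sigma fun x => blks M x

theorem mem_pairSet {x : G} {f : MonoidAlgebra 𝕜 G} :
    (⟨x, f⟩ : (_ : G) × MonoidAlgebra 𝕜 G) ∈ pairSet p M G ↔
      x ∈ pSet p G ∧ IsBlk 𝕜 C[Z[x]] f := by
  rw [pairSet, mem_sigma, mem_blks]

/-- The orbit of a pair. -/
noncomputable def orb (v : G) (f : MonoidAlgebra 𝕜 G) :
    Finset ((_ : G) × MonoidAlgebra 𝕜 G) :=
  univ.image fun g : G => ⟨g * v * g⁻¹, cj 𝕜 g f⟩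

theorem mem_orb {v x : G} {f d : MonoidAlgebra 𝕜 G} :
    (⟨x, d⟩ : (_ : G) × MonoidAlgebra 𝕜 G) ∈ orb v f ↔
      ∃ g, g * v * g⁻¹ = x ∧ cj 𝕜 g f = d := by
  rw [orb, mem_image]
  refine exists_congr fun g => ?_
  simp

theorem orb_subset {v : G} {f : MonoidAlgebra 𝕜 G} (hv : v ∈ pSet p G)
    (hf : IsBlk 𝕜 C[Z[v]] f) : orb v f ⊆ pairSet p M G := by
  rintro ⟨x, d⟩ ht
  obtain ⟨g, rfl, rfl⟩ := mem_orb.1 ht
  refine mem_pairSet.2 ⟨?_, ?_⟩
  · obtain ⟨n, hn⟩ := mem_pSet.1 hv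
    exact mem_pSet.2 ⟨n, by rw [conj_pow, hn, mul_one, mul_inv_cancel]⟩
  · have h1 := hf.cj g
    rwa [map_conj_centralizer, MonoidHom.map_zpowers] at h1

theorem orb_eq_of_inter {v v' x : G} {f f' d : MonoidAlgebra 𝕜 G}
    (h : (⟨x, d⟩ : (_ : G) × MonoidAlgebra 𝕜 G) ∈ orb v f)
    (h' : (⟨x, d⟩ : (_ : G) × MonoidAlgebra 𝕜 G) ∈ orb v' f') :
    ∃ g, g * v * g⁻¹ = v' ∧ cj 𝕜 g f = f' := by
  obtain ⟨a, ha, ha'⟩ := mem_orb.1 h
  obtain ⟨c, hc, hc'⟩ := mem_orb.1 h'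
  refine ⟨c⁻¹ * a, ?_, ?_⟩
  · calc c⁻¹ * a * v * (c⁻¹ * a)⁻¹ = c⁻¹ * (a * v * a⁻¹) * c := by group
      _ = v' := by rw [ha, ← hc]; group
  · rw [cj_mul, ha', ← hc', cj_inv_cj]

theorem card_orb {v : G} {f : MonoidAlgebra 𝕜 G} (hf : IsBlk 𝕜 C[Z[v]] f) :
    (orb v f).card * Nat.card C[Z[v]] = Nat.card G := by
  have hfib : ∀ t ∈ orb v f, ((univ : Finset G).filter fun g =>
      (⟨g * v * g⁻¹, cj 𝕜 g f⟩ : (_ : G) × MonoidAlgebra 𝕜 G) = t).card =
        Nat.card C[Z[v]] := by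
    rintro ⟨x, d⟩ ht
    obtain ⟨a, rfl, rfl⟩ := mem_orb.1 ht
    rw [Nat.card_eq_fintype_card, ← card_univ]
    refine card_bij' (fun g hg => ⟨a⁻¹ * g, mem_cz.2 ?_⟩) (fun c _ => a * (c : G))
      (fun g _ => mem_univ _) (fun c _ => ?_) (fun g _ => mul_inv_cancel_left a g)
      fun c _ => Subtype.ext (inv_mul_cancel_left a (c : G))
    · have h1 : g * v * g⁻¹ = a * v * a⁻¹ := congrArg Sigma.fst (mem_filter.1 hg).2
      calc a⁻¹ * g * v = a⁻¹ * (g * v * g⁻¹) * g := by group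
        _ = v * (a⁻¹ * g) := by rw [h1]; group
    · have hc : (c : G) * v = v * c := mem_cz.1 c.2
      refine mem_filter.2 ⟨mem_univ _, Sigma.ext ?_ (heq_of_eq ?_)⟩
      · show a * (c : G) * v * (a * (c : G))⁻¹ = a * v * a⁻¹
        rw [mul_assoc a, hc]; group
      · show cj 𝕜 (a * (c : G)) f = cj 𝕜 a f
        rw [cj_mul, hf.fixBy _ c.2]
  rw [Nat.card_eq_fintype_card (α := G), ← card_univ (α := G),
    card_eq_sum_card_image (fun g : G => (⟨g * v * g⁻¹, cj 𝕜 g f⟩ : (_ : G) × MonoidAlgebra 𝕜 G))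
      (univ : Finset G)]
  rw [← orb, sum_congr rfl hfib, sum_const, smul_eq_mul]

/-- The weight of a pair in the norm. -/
noncomputable def qw (p : ℕ) [Fact p.Prime] [CharP (Residue M) p] (co : B → ℂ)
    (t : (_ : G) × MonoidAlgebra 𝕜 G) : ℝ :=
  (Nat.card G : ℝ)⁻¹ * (Nat.card C[Z[t.1]] : ℝ) * qf p co t.1 t.2

theorem qw_nonneg (co : B → ℂ) (t : (_ : G) × MonoidAlgebra 𝕜 G) : 0 ≤ qw p co t :=
  mul_nonneg (mul_nonneg (inv_nonneg.2 (Nat.cast_nonneg _)) (Nat.cast_nonneg _)) (qf_nonneg _ _ _)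

theorem sum_qw_orb (hM : IsPModular p M) (co : B → ℂ) {v : G} (hv : v ∈ pSet p G)
    {f : MonoidAlgebra 𝕜 G} (hf : IsBlk 𝕜 C[Z[v]] f) :
    ∑ t ∈ orb v f, qw p co t = qf p co v f := by
  have h1 : ∀ t ∈ orb v f, qw p co t =
      (Nat.card G : ℝ)⁻¹ * (Nat.card C[Z[v]] : ℝ) * qf p co v f := by
    rintro ⟨x, d⟩ ht
    obtain ⟨g, rfl, rfl⟩ := mem_orb.1 ht
    have hC : C[Z[v]].map (MulAut.conj g).toMonoidHom = C[Z[g * v * g⁻¹]] := by
      rw [map_conj_centralizer, MonoidHom.map_zpowers]; rfl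
    rw [qw, qf_conj hM co hv hf g, ← hC,
      Subgroup.card_map_of_injective (MulEquiv.injective _)]
  rw [sum_congr rfl h1, sum_const, nsmul_eq_mul]
  have h2 : ((orb v f).card : ℝ) * Nat.card C[Z[v]] = Nat.card G := by
    exact_mod_cast card_orb hf
  calc ((orb v f).card : ℝ) * ((Nat.card G : ℝ)⁻¹ * (Nat.card C[Z[v]] : ℝ) * qf p co v f)
      = (Nat.card G : ℝ)⁻¹ * (((orb v f).card : ℝ) * Nat.card C[Z[v]]) * qf p co v f := by ring
    _ = qf p co v f := by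
      rw [h2, inv_mul_cancel₀ (Nat.cast_ne_zero.2 Nat.card_pos.ne'), one_mul]

/-- **The norm is the sum of the forms of all pairs.** -/
theorem norm_eq_sum_qw (hM : IsPModular p M) (co : B → ℂ) :
    ∑ χ : B, ‖co χ‖ ^ 2 = ∑ t ∈ pairSet p M G, qw p co t := by
  apply Complex.ofReal_injective
  have h1 : ∀ χ ψ : B, (if χ = ψ then 1 else 0 : ℂ) = (Nat.card G : ℂ)⁻¹ *
      ∑ x ∈ pSet p G, (Nat.card C[Z[x]] : ℂ) * ∑ f ∈ blks M x, contribR p χ.1 ψ.1 x f := by
    intro χ ψ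
    have h := classInner_starFun' hM (fun _ (_ : MonoidAlgebra 𝕜 G) => (1 : ℂ))
      (fun _ (_ : MonoidAlgebra 𝕜 G) => (1 : ℂ)) χ.1 ψ.1
    simp only [starFun_const_one (M := M) hM, map_one, one_mul, classInner_irr,
      ← Subtype.ext_iff] at h
    exact h
  rw [pairSet, sum_sigma, Complex.ofReal_sum]
  simp only [qw, Complex.ofReal_sum, Complex.ofReal_mul, Complex.ofReal_inv,
    Complex.ofReal_natCast, qf_eq]
  calc ∑ χ : B, ((‖co χ‖ ^ 2 : ℝ) : ℂ)
      = ∑ χ : B, ∑ ψ : B, co χ * conj (co ψ) * (if χ = ψ then 1 else 0 : ℂ) := by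
        refine sum_congr rfl fun χ _ => ?_
        simp [Complex.mul_conj']
    _ = _ := by
        simp only [h1, mul_sum]
        rw [sum_congr rfl fun χ _ => sum_comm, sum_comm]
        refine sum_congr rfl fun x _ => ?_
        rw [sum_congr rfl fun χ _ => sum_comm, sum_comm]
        exact sum_congr rfl fun f _ => sum_congr rfl fun χ _ => sum_congr rfl fun ψ _ => by ring

/-- The forms of the pairs on the trivial subgroup are those of the regular parts. -/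
theorem sum_qf_single_one (hM : IsPModular p M) (χ : B) :
    ((∑ f ∈ blks M (1 : G), qf p (fun ψ : B => if ψ = χ then 1 else 0) 1 f : ℝ) : ℂ) =
      regMat p B χ χ := by
  have h1 : regPart p ((χ : IrrCharacter G) : G → ℂ) = starFun p
      (fun x (_ : MonoidAlgebra 𝕜 G) => if x = 1 then (1 : ℂ) else 0) χ.1 := funext fun g => by
    obtain ⟨x, s, h, rfl⟩ := exists_pElt p g
    by_cases hx : x = 1
    · subst hx
      rw [starFun_eq _ χ.1 h rfl, wsum_one_eq hM _ χ.1 h, one_mul, regPart_of_not_dvd h.reg]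
      have h2 := wsum_const_one (M := M) hM χ.1 h
      rw [wsum_one_eq hM _ χ.1 h, one_mul] at h2
      simpa using h2.symm
    · rw [starFun_eq _ χ.1 h rfl, wsum_one_eq hM _ χ.1 h, regPart_of_dvd ?_]
      · simp [hx]
      · obtain ⟨j, hj⟩ := orderOf_eq_pow h
        have hj0 : j ≠ 0 := fun e => hx (orderOf_eq_one_iff.1 (by rw [hj, e, pow_zero]))
        rw [h.comm.orderOf_mul_eq_mul_orderOf_of_coprime (by
          rw [hj]; exact ((Fact.out : p.Prime).coprime_iff_not_dvd.2 h.reg).pow_left j), hj]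
        exact dvd_mul_of_dvd_left (dvd_pow_self p hj0) _
  have h2 : regMat p B χ χ = classInner (regPart p ((χ : IrrCharacter G) : G → ℂ))
      (regPart p ((χ : IrrCharacter G) : G → ℂ)) := by
    rw [regMat, CfsgLib.Char.classInner_def, CfsgLib.Char.classInner_def]
    refine congrArg _ (sum_congr rfl fun g _ => ?_)
    by_cases hg : p ∣ orderOf g
    · rw [regPart_of_dvd hg, zero_mul, zero_mul]
    · rw [regPart_of_not_dvd hg]
  have h1m : (1 : G) ∈ pSet p G := mem_pSet.2 ⟨0, by simp⟩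
  have hC : Nat.card C[Z[(1 : G)]] = Nat.card G := by
    rw [Subgroup.zpowers_one_eq_bot, centralizer_bot, Subgroup.card_top]
  rw [h2, h1, classInner_starFun' hM, sum_eq_single_of_mem (1 : G) h1m (fun x _ hx => by simp [hx]),
    hC, ← mul_assoc, inv_mul_cancel₀ (Nat.cast_ne_zero.2 Nat.card_pos.ne'), one_mul,
    Complex.ofReal_sum]
  refine sum_congr rfl fun f _ => ?_
  rw [qf_eq, sum_eq_single_of_mem χ (mem_univ _) (fun ψ _ hne => by simp [hne]),
    sum_eq_single_of_mem χ (mem_univ _) (fun ψ _ hne => by simp [hne])]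
  simp

end CfsgLib.DihDefect
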