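import Cfsg.Agent.BlocksB.DihedralDefect.Values
import Cfsg.Agent.BlocksB.DihedralDefect.Pairs
import Cfsg.Agent.BlocksB.DihedralDefect.Count
import Cfsg.Agent.BlocksB.DihedralDefect.CentralFour

/-!
# A block with dihedral defect group: the sums over the reflections in the centralizer
-/

set_option autoImplicit false
set_option linter.style.haveILetI false
set_option linter.unusedSectionVars false

namespace CfsgLib.DihDefect

open Cfsg Finset CfsgLib.Block CfsgLib.Block.Chr CfsgLib.BrauerPairs CfsgLib.BlockStar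
  CfsgLib.BlockB CfsgLib.Char
open scoped ComplexConjugate
open scoped Classical

universe u

variable {M : Ideal AlgInt} [M.IsPrime] [Fact (Nat.Prime 2)] [CharP (Residue M) 2]
  {G : Type u} [Group G] [Fintype G]

local notation "𝕜" => Residue M
local notation "Z[" x "]" => Subgroup.zpowers x
local notation "C[" Q "]" => Subgroup.centralizer (SetLike.coe Q)

namespace DihData

variable {B : Set (IrrCharacter G)} {D : Subgroup G} {e : MonoidAlgebra (Residue M) G}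
  {σ τ : G} {h : ℕ} (S : DihData (M := M) B D e σ τ h)
include S

/-- A reflection in the defect group inside the centralizer of `z`. -/
def refl (i : ℤ) : D.subgroupOf C[Z[σ ^ h]] :=
  ⟨⟨σ ^ i * τ, S.le_centralizer (D.mul_mem (D.zpow_mem S.σ_mem i) S.τ_mem)⟩,
    Subgroup.mem_subgroupOf.2 (D.mul_mem (D.zpow_mem S.σ_mem i) S.τ_mem)⟩

@[simp] theorem coe_refl (i : ℤ) : (((S.refl i : D.subgroupOf C[Z[σ ^ h]]) :
    C[Z[σ ^ h]]) : G) = σ ^ i * τ := rfl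

theorem refl_order (i : ℤ) : orderOf (S.refl i : C[Z[σ ^ h]]) = 2 := by
  rw [← Subgroup.orderOf_coe, coe_refl]
  exact CfsgLib.Invol.orderOf_eq_two
    (S.refl_sq (D.mul_mem (D.zpow_mem S.σ_mem i) S.τ_mem) (S.refl_not i))
    fun e1 => S.refl_not i (e1 ▸ one_mem _)

/-- An element of `D` commuting with a reflection. -/
theorem comm_refl {q : G} (hq : q ∈ D) (i : ℤ) (hc : q * (σ ^ i * τ) = σ ^ i * τ * q) :
    q = 1 ∨ q = σ ^ h ∨ q = σ ^ i * τ ∨ q = σ ^ h * (σ ^ i * τ) := by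
  have hr : σ ^ i * τ ∈ D := D.mul_mem (D.zpow_mem S.σ_mem i) S.τ_mem
  have hrA := S.refl_not i
  by_cases hgA : q ∈ Z[σ]
  · obtain ⟨j, rfl⟩ := Subgroup.mem_zpowers_iff.1 hgA
    have h3 : σ ^ (i + 2 * j) * τ = σ ^ i * τ := by
      rw [← S.refl_conj]; exact mul_inv_eq_iff_eq_mul.2 hc
    have h4 : σ ^ j * σ ^ j = 1 := by
      have h5 := mul_right_cancel h3
      rw [zpow_add, mul_eq_left, two_mul, zpow_add] at h5
      exact h5
    rcases S.eq_z hgA h4 with e1 | e1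
    · exact Or.inl e1
    · exact Or.inr (Or.inl e1)
  · have hp := S.refl_mul_mem hq hr hgA hrA
    set r := σ ^ i * τ
    have h4 : q * r * (q * r) = 1 := by
      calc q * r * (q * r) = q * r * (r * q) := by rw [hc]
        _ = q * (r * r) * q := by group
        _ = 1 := by rw [S.refl_sq hr hrA, mul_one, S.refl_sq hq hgA]
    have hgr : q = q * r * r := by rw [mul_assoc, S.refl_sq hr hrA, mul_one]
    rcases S.eq_z hp h4 with e1 | e1
    · exact Or.inr (Or.inr (Or.inl (by rw [hgr, e1, one_mul])))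
    · exact Or.inr (Or.inr (Or.inr (by rw [hgr, e1])))

/-- A reflection is conjugate in `D` to one of two. -/
theorem refl_classes {g : D.subgroupOf C[Z[σ ^ h]]} (hg : ((g : C[Z[σ ^ h]]) : G) ∉ Z[σ]) :
    IsConj (S.refl 0) g ∨ IsConj (S.refl 1) g := by
  obtain ⟨i, hi⟩ := S.exists_refl (Subgroup.mem_subgroupOf.1 g.2) hg
  have key : ∀ i₀ j : ℤ, i = i₀ + 2 * j → IsConj (S.refl i₀) g := fun i₀ j hij =>
    isConj_iff.2 ⟨⟨⟨σ ^ j, S.le_centralizer (D.zpow_mem S.σ_mem j)⟩,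
      Subgroup.mem_subgroupOf.2 (D.zpow_mem S.σ_mem j)⟩, Subtype.ext (Subtype.ext (by
        show σ ^ j * (σ ^ i₀ * τ) * (σ ^ j)⁻¹ = _
        rw [S.refl_conj, hi, hij]))⟩
  rcases Int.emod_two_eq_zero_or_one i with e1 | e1
  · exact Or.inl (key 0 (i / 2) (by omega))
  · exact Or.inr (key 1 (i / 2) (by omega))

/-- The two classes of reflections differ. -/
theorem refl_not_conj : ¬ IsConj (S.refl 0) (S.refl 1) := by
  intro hc
  obtain ⟨w, hw⟩ := isConj_iff.1 hc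
  have hw' : ((w : C[Z[σ ^ h]]) : G) * (σ ^ (0 : ℤ) * τ) * ((w : C[Z[σ ^ h]]) : G)⁻¹ =
      σ ^ (1 : ℤ) * τ := congrArg (fun a : D.subgroupOf C[Z[σ ^ h]] => ((a : C[Z[σ ^ h]]) : G)) hw
  have hodd : ∀ j : ℤ, σ ^ j * τ ≠ σ ^ (1 : ℤ) * τ ∨ ¬ (2 : ℤ) ∣ j := fun j => by
    by_cases hj : (2 : ℤ) ∣ j
    · left
      intro e1
      have h1 := mul_right_cancel e1
      rw [← mul_inv_eq_one, ← zpow_neg, ← zpow_add, S.zpow_eq_one] at h1
      have h2 := (dvd_mul_right (2 : ℤ) (h : ℤ)).trans h1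
      omega
    · exact Or.inr hj
  rcases S.cases _ (Subgroup.mem_subgroupOf.1 w.2) with ⟨j, e1 | e1⟩
  · rw [e1, S.refl_conj] at hw'
    exact (hodd (0 + 2 * j)).elim (fun hne => hne hw') fun hn => hn ⟨j, by ring⟩
  · have e2 : σ ^ j * τ * (σ ^ (0 : ℤ) * τ) * (σ ^ j * τ)⁻¹ = σ ^ (0 + 2 * j) * τ := by
      rw [← S.refl_conj, zpow_zero, one_mul]
      group
    rw [e1, e2] at hw'
    exact (hodd (0 + 2 * j)).elim (fun hne => hne hw') fun hn => hn ⟨j, by ring⟩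

end DihData

namespace LocData

variable {B : Set (IrrCharacter G)} {D : Subgroup G} {e : MonoidAlgebra (Residue M) G}
  {σ τ : G} {h : ℕ} {S : DihData (M := M) B D e σ τ h} [Fintype C[Z[σ ^ h]]]
  {f : Set (IrrCharacter C[Z[σ ^ h]])} {e' : MonoidAlgebra (Residue M) C[Z[σ ^ h]]}
  {χ₀ : IrrCharacter C[Z[σ ^ h]]} {Φ : IrrCharacter (D.subgroupOf C[Z[σ ^ h]]) ≃ f}
  (T : LocData S f e' χ₀ Φ)
include T

local notation "P'" => Subgroup.subgroupOf D C[Z[σ ^ h]]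

theorem card_refl_inf (i : ℤ) :
    Nat.card (P' ⊓ C[Z[(S.refl i : C[Z[σ ^ h]])]] : Subgroup C[Z[σ ^ h]]) = 4 := by
  rw [← S.card_centralizer_refl i, ← Subgroup.card_map_of_injective
    (K := (P' ⊓ C[Z[(S.refl i : C[Z[σ ^ h]])]] : Subgroup C[Z[σ ^ h]]))
    (C[Z[σ ^ h]]).subtype_injective]
  congr 2
  ext g
  rw [Subgroup.mem_map]
  constructor
  · rintro ⟨q, ⟨h1, h2⟩, rfl⟩
    exact ⟨Subgroup.mem_subgroupOf.1 h1, mem_cz.2 (congrArg Subtype.val (mem_cz.1 h2))⟩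
  · rintro ⟨h1, h2⟩
    exact ⟨⟨g, S.le_centralizer h1⟩, ⟨Subgroup.mem_subgroupOf.2 h1,
      mem_cz.2 (Subtype.ext (mem_cz.1 h2))⟩, rfl⟩

/-- The value of the base character at a reflection. -/
theorem exists_val_refl (i : ℤ) : ∃ K : ℤ,
    val χ₀ (S.refl i : C[Z[σ ^ h]]) 1 (subBlk 2 P' e' (S.refl i : C[Z[σ ^ h]])) = (K : ℂ) ∧
      K ≠ 0 ∧ K.natAbs.factorization 2 + 2 =
        (Nat.card C[Z[(S.refl i : C[Z[σ ^ h]])]]).factorization 2 := by
  refine val_central_four S.hM T.hf T.hnil T.hmax' T.mem₀ T.h0 (S.refl i).2 (S.refl_order i)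
    (T.card_refl_inf i) fun q hq g hg => ?_
  have h1 : g * (S.refl i : C[Z[σ ^ h]]) = (S.refl i : C[Z[σ ^ h]]) * g := mem_cz.1 hg
  have hz : (S.rot h : C[Z[σ ^ h]]) * g = g * (S.rot h : C[Z[σ ^ h]]) := S.rot_central g
  have hq' : q = 1 ∨ q = (S.rot h : C[Z[σ ^ h]]) ∨ q = (S.refl i : C[Z[σ ^ h]]) ∨
      q = (S.rot h : C[Z[σ ^ h]]) * (S.refl i : C[Z[σ ^ h]]) := by
    rcases S.comm_refl (Subgroup.mem_subgroupOf.1 hq.1) i
      (congrArg Subtype.val (mem_cz.1 hq.2)) with e1 | e1 | e1 | e1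
    · exact Or.inl (Subtype.ext e1)
    · exact Or.inr (Or.inl (Subtype.ext e1))
    · exact Or.inr (Or.inr (Or.inl (Subtype.ext e1)))
    · exact Or.inr (Or.inr (Or.inr (Subtype.ext e1)))
  rcases hq' with rfl | rfl | rfl | rfl
  · rw [one_mul, mul_one]
  · exact hz
  · exact h1.symm
  · rw [mul_assoc, ← h1, ← mul_assoc, hz, mul_assoc]

/-- The integral sum over the orbit of a reflection. -/
theorem exists_orbit_sum (i : ℤ) : ∃ K : ℤ, K ≠ 0 ∧
    K.natAbs.factorization 2 + 2 = (Nat.card C[Z[σ ^ h]]).factorization 2 ∧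
    ∀ ζ : IrrCharacter P', ∑ t ∈ orb (S.refl i : C[Z[σ ^ h]])
      (subBlk 2 P' e' (S.refl i : C[Z[σ ^ h]])),
        weight 2 P' e' (extendByZero P' (ζ : P' → ℂ)) t.1 t.2 * val χ₀ t.1 1 t.2 =
      (ζ : P' → ℂ) (S.refl i) * (K : ℂ) := by
  have hM := S.hM
  obtain ⟨K, hK, hK0, hK2⟩ := T.exists_val_refl i
  have hblk := T.isBlk_sub (S.refl i).2
  have hcard := card_orb (v := (S.refl i : C[Z[σ ^ h]])) hblk
  set N := (orb (S.refl i : C[Z[σ ^ h]]) (subBlk 2 P' e' (S.refl i : C[Z[σ ^ h]]))).card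
  have hN0 : N ≠ 0 := fun e0 => by
    rw [e0, zero_mul] at hcard; exact Nat.card_pos.ne hcard
  refine ⟨(N : ℤ) * K, mul_ne_zero (Int.natCast_ne_zero.2 hN0) hK0, ?_, fun ζ => ?_⟩
  · rw [Int.natAbs_mul, Int.natAbs_natCast, Nat.factorization_mul hN0 (Int.natAbs_ne_zero.2 hK0),
      ← hcard, Nat.factorization_mul hN0 Nat.card_pos.ne', Finsupp.add_apply, Finsupp.add_apply,
      ← hK2]
    omega
  have hs : PElt 2 (S.refl i : C[Z[σ ^ h]]) 1 :=
    ⟨mem_pSet.1 (mem_pSet_of_mem T.hP' (S.refl i).2),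
      by rw [orderOf_one]; exact Nat.prime_two.not_dvd_one, Commute.one_right _⟩
  have hst := stable_extend (exists_conj_mem hM T.hf T.hnil T.hmax') (isClassFunction_irr ζ)
  rw [sum_congr rfl (g := fun _ => (ζ : P' → ℂ) (S.refl i) * (K : ℂ)) ?_, sum_const, nsmul_eq_mul]
  · simp only [Int.cast_mul, Int.cast_natCast]; ring
  · rintro ⟨x, d⟩ ht
    obtain ⟨g, hg, hgd⟩ := mem_orb.1 ht
    subst hg hgd
    show weight 2 P' e' _ _ _ * val χ₀ _ 1 _ = _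
    rw [weight_conj hst, weight_of_ple hst (subBlk_ple T.hP' (S.refl i).2), extend_apply_mem,
      val_cj hM χ₀ hs g (by rw [mul_one, mul_inv_cancel]) hblk.idem
        (hblk.fixBy.mono (sup_le_cz hs)), hK]

/-- **The sums of the members over the involutions.** -/
theorem exists_setSum : ∃ K₁ K₂ : ℤ, K₁ ≠ 0 ∧ K₂ ≠ 0 ∧
    K₁.natAbs.factorization 2 + 2 = (Nat.card C[Z[σ ^ h]]).factorization 2 ∧
    K₂.natAbs.factorization 2 + 2 = (Nat.card C[Z[σ ^ h]]).factorization 2 ∧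
    ∀ ζ : IrrCharacter P', setSum (invs' (z := σ ^ h)) (Φ ζ : IrrCharacter C[Z[σ ^ h]]) =
      (ζ : P' → ℂ) (S.refl 0) * (K₁ : ℂ) + (ζ : P' → ℂ) (S.refl 1) * (K₂ : ℂ) := by
  have hM := S.hM
  obtain ⟨K₁, a0, a2, asum⟩ := T.exists_orbit_sum 0
  obtain ⟨K₂, b0, b2, bsum⟩ := T.exists_orbit_sum 1
  refine ⟨K₁, K₂, a0, b0, a2, b2, fun ζ => ?_⟩
  rw [← asum ζ, ← bsum ζ]
  set W := weight 2 P' e' (extendByZero P' (ζ : P' → ℂ))
  set O₁ := orb (S.refl 0 : C[Z[σ ^ h]]) (subBlk 2 P' e' (S.refl 0 : C[Z[σ ^ h]]))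
  set O₂ := orb (S.refl 1 : C[Z[σ ^ h]]) (subBlk 2 P' e' (S.refl 1 : C[Z[σ ^ h]]))
  have hexp : setSum (invs' (z := σ ^ h)) (Φ ζ : IrrCharacter C[Z[σ ^ h]]) =
      ∑ t ∈ (invs' (z := σ ^ h)).sigma (fun u => blks M u), W t.1 t.2 * val χ₀ t.1 1 t.2 := by
    rw [setSum, sum_sigma]
    refine sum_congr rfl fun u hu => ?_
    have hp : PElt 2 u 1 := ⟨⟨1, by rw [pow_one, ← (mem_filter.1 hu).2.1, pow_orderOf_eq_one]⟩,
      by rw [orderOf_one]; exact Nat.prime_two.not_dvd_one, Commute.one_right _⟩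
    rw [T.hΦ ζ, starFun_eq W χ₀ hp (mul_one u), wsum]
    exact sum_congr rfl fun d _ => by rw [br_one, one_mul]
  have hord : ∀ i : ℤ, (S.refl i : C[Z[σ ^ h]]) ∈ invs' (z := σ ^ h) := fun i => by
    refine mem_filter.2 ⟨mem_univ _, S.refl_order i, fun e1 => S.refl_not i ?_⟩
    rw [S.coe_refl] at e1
    rw [e1]
    exact Subgroup.pow_mem _ (Subgroup.mem_zpowers σ) h
  have hsub : ∀ i : ℤ, orb (S.refl i : C[Z[σ ^ h]]) (subBlk 2 P' e' (S.refl i : C[Z[σ ^ h]])) ⊆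
      (invs' (z := σ ^ h)).sigma (fun u => blks M u) := by
    rintro i ⟨x, d⟩ ht
    have hd := (mem_pairSet.1 (orb_subset (p := 2) (mem_pSet_of_mem T.hP' (S.refl i).2)
      (T.isBlk_sub (S.refl i).2) ht)).2
    obtain ⟨g, hg, -⟩ := mem_orb.1 ht
    exact mem_sigma.2 ⟨hg ▸ invs'_conj (hord i) g, mem_blks.2 hd⟩
  have hdisj : Disjoint O₁ O₂ := by
    rw [disjoint_left]
    rintro ⟨x, d⟩ h1 h2
    obtain ⟨g, hg, hgd⟩ := orb_eq_of_inter h1 h2
    have hC : Carries 2 (P', e') Z[(S.refl 0 : C[Z[σ ^ h]])] g := by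
      refine ⟨subBlk 2 P' e' (S.refl 0 : C[Z[σ ^ h]]), subBlk_ple T.hP' (S.refl 0).2, ?_⟩
      rw [cjPair_zpowers, hg, hgd]
      exact subBlk_ple T.hP' (S.refl 1).2
    obtain ⟨w, hw, hww⟩ := exists_conj_mem hM T.hf T.hnil T.hmax' _ (S.refl 0).2 g hC
    rw [hg] at hww
    exact S.refl_not_conj (isConj_iff.2 ⟨⟨w, hw⟩, Subtype.ext hww.symm⟩)
  rw [hexp, ← sum_union hdisj]
  refine (sum_subset (union_subset (hsub 0) (hsub 1)) fun t ht hn => ?_).symm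
  obtain ⟨u, d⟩ := t
  obtain ⟨hu, hd⟩ := mem_sigma.1 ht
  have hd' := mem_blks.1 hd
  refine mul_eq_zero_of_left ?_ _
  show weight 2 P' e' (extendByZero P' (ζ : P' → ℂ)) u d = 0
  by_cases hex : ∃ g, PLE 2 (cjPair g (Z[u], d)) (P', e')
  swap
  · rw [weight, dif_neg hex]
  exfalso
  obtain ⟨g, hg⟩ := hex
  have hr := conj_mem_of_ple hg
  rw [cjPair_zpowers] at hg
  have hdsub : cj 𝕜 g d = subBlk 2 P' e' (g * u * g⁻¹) :=
    ple_unique T.hP' hg (subBlk_ple T.hP' hr)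
  have hu' := invs'_conj hu g
  have hrot : ((g * u * g⁻¹ : C[Z[σ ^ h]]) : G) ∉ Z[σ] := fun hm => by
    obtain ⟨h1, h2⟩ := (mem_filter.1 hu').2
    rcases S.eq_z hm (by rw [← pow_two, ← h1, ← Subgroup.orderOf_coe, pow_orderOf_eq_one])
      with e1 | e1
    · rw [← Subgroup.orderOf_coe, e1, orderOf_one] at h1; omega
    · exact h2 e1
  refine hn (mem_union.2 ?_)
  have key : ∀ i : ℤ, IsConj (S.refl i) (⟨g * u * g⁻¹, hr⟩ : P') →
      (⟨u, d⟩ : (_ : C[Z[σ ^ h]]) × MonoidAlgebra 𝕜 C[Z[σ ^ h]]) ∈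
        orb (S.refl i : C[Z[σ ^ h]]) (subBlk 2 P' e' (S.refl i : C[Z[σ ^ h]])) := by
    intro i hc
    obtain ⟨w, hw⟩ := isConj_iff.1 hc
    have hw' : (w : C[Z[σ ^ h]]) * (S.refl i : C[Z[σ ^ h]]) * (w : C[Z[σ ^ h]])⁻¹ = g * u * g⁻¹ :=
      congrArg Subtype.val hw
    refine mem_orb.2 ⟨g⁻¹ * (w : C[Z[σ ^ h]]), ?_, ?_⟩
    · calc g⁻¹ * (w : C[Z[σ ^ h]]) * (S.refl i : C[Z[σ ^ h]]) * (g⁻¹ * (w : C[Z[σ ^ h]]))⁻¹
          = g⁻¹ * ((w : C[Z[σ ^ h]]) * (S.refl i : C[Z[σ ^ h]]) * (w : C[Z[σ ^ h]])⁻¹) * g := by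
            group
        _ = u := by rw [hw']; group
    · rw [cj_mul, subBlk_conj T.hP' (S.refl i).2 w.2, hw', ← hdsub, cj_inv_cj]
  rcases S.refl_classes (g := ⟨g * u * g⁻¹, hr⟩) hrot with hc | hc
  · exact Or.inl (key 0 hc)
  · exact Or.inr (key 1 hc)

/-- **The column sums in the defect group.** -/
theorem sum_refl [Fintype (IrrCharacter P')] :
    (∑ ζ : IrrCharacter P', (ζ : P' → ℂ) (S.refl 0) * (ζ : P' → ℂ) (S.refl 0) *
        ((ζ : P' → ℂ) (S.rot h) / (ζ : P' → ℂ) 1) = 4) ∧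
    (∑ ζ : IrrCharacter P', (ζ : P' → ℂ) (S.refl 1) * (ζ : P' → ℂ) (S.refl 1) *
        ((ζ : P' → ℂ) (S.rot h) / (ζ : P' → ℂ) 1) = 4) ∧
    ∑ ζ : IrrCharacter P', (ζ : P' → ℂ) (S.refl 0) * (ζ : P' → ℂ) (S.refl 1) *
        ((ζ : P' → ℂ) (S.rot h) / (ζ : P' → ℂ) 1) = 0 := by
  haveI := Fintype.ofFinite P'
  have hcen : ∀ g : P', S.rot h * g = g * S.rot h := fun g => Subtype.ext (S.rot_central g.1)
  have hmul : ∀ (ζ : IrrCharacter P') (b : P'),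
      (ζ : P' → ℂ) (S.rot h * b) = (ζ : P' → ℂ) (S.rot h) / (ζ : P' → ℂ) 1 * (ζ : P' → ℂ) b := by
    intro ζ b
    obtain ⟨w, -, hw⟩ := exists_central_scalar ζ.2 (z := S.rot h) hcen
    have h1 := hw 1
    rw [mul_one] at h1
    rw [hw b, h1, mul_div_assoc, div_self (irr_one_ne_zero ζ), mul_one]
  have hrm : ∀ i : ℤ, S.rot h * S.refl i = S.refl (i + h) := fun i => Subtype.ext (Subtype.ext (by
    show σ ^ h * (σ ^ i * τ) = σ ^ (i + h) * τ
    rw [← mul_assoc, ← zpow_natCast, ← zpow_add, add_comm]))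
  have hreal : ∀ (ζ : IrrCharacter P') (i : ℤ),
      conj ((ζ : P' → ℂ) (S.refl i)) = (ζ : P' → ℂ) (S.refl i) := fun ζ i => by
    rw [conj_irr, inv_of_two (by rw [← Subgroup.orderOf_coe]; exact S.refl_order i)]
  have key : ∀ i j : ℤ, ∑ ζ : IrrCharacter P', (ζ : P' → ℂ) (S.refl i) * (ζ : P' → ℂ) (S.refl j) *
        ((ζ : P' → ℂ) (S.rot h) / (ζ : P' → ℂ) 1) =
      if IsConj (S.refl i) (S.refl (j + h)) then
        (Nat.card (Subgroup.centralizer ({S.refl i} : Set P')) : ℂ) else 0 := fun i j => by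
    rw [← column_orth (S.refl i) (S.refl (j + h))]
    refine sum_congr rfl fun ζ _ => ?_
    rw [hreal, ← hrm j, hmul]
    ring
  have hcard : ∀ i : ℤ, Nat.card (Subgroup.centralizer ({S.refl i} : Set P')) = 4 := fun i => by
    rw [← T.card_refl_inf i, ← Subgroup.card_map_of_injective
      (K := Subgroup.centralizer ({S.refl i} : Set P')) (P').subtype_injective]
    congr 2
    ext g
    rw [Subgroup.mem_map]
    constructor
    · rintro ⟨q, hq, rfl⟩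
      exact ⟨q.2, mem_cz.2 (congrArg Subtype.val (Subgroup.mem_centralizer_singleton_iff.1 hq))⟩
    · rintro ⟨h1, h2⟩
      exact ⟨⟨g, h1⟩, Subgroup.mem_centralizer_singleton_iff.2 (Subtype.ext (mem_cz.1 h2)), rfl⟩
  obtain ⟨k, hk⟩ := S.h_even
  have hconj : ∀ i : ℤ, IsConj (S.refl i) (S.refl (i + h)) := fun i =>
    isConj_iff.2 ⟨⟨⟨σ ^ (k : ℤ), S.le_centralizer (D.zpow_mem S.σ_mem _)⟩,
      Subgroup.mem_subgroupOf.2 (D.zpow_mem S.σ_mem _)⟩, Subtype.ext (Subtype.ext (by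
        show σ ^ (k : ℤ) * (σ ^ i * τ) * (σ ^ (k : ℤ))⁻¹ = σ ^ (i + h) * τ
        rw [S.refl_conj, hk]; push_cast; rfl))⟩
  refine ⟨?_, ?_, ?_⟩
  · rw [key 0 0, if_pos (hconj 0), hcard]; norm_num
  · rw [key 1 1, if_pos (hconj 1), hcard]; norm_num
  · rw [key 0 1, if_neg fun hc => S.refl_not_conj (hc.trans (hconj 1).symm)]

end LocData

end CfsgLib.DihDefect
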