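import Cfsg.Agent.BlocksB.DihedralDefect.Heights
import Cfsg.Agent.BlocksB.DihedralDefect.LocalSum

/-!
# A block with dihedral defect group of order sixteen has more than five members
-/

set_option autoImplicit false
set_option linter.style.haveILetI false
set_option linter.unusedSectionVars false

namespace CfsgLib.DihDefect

open Cfsg Finset CfsgLib.Block CfsgLib.Block.Chr CfsgLib.BrauerPairs CfsgLib.BlockStar
  CfsgLib.BlockB
open scoped ComplexConjugate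
open scoped Classical

universe u

/-- The valuation of a sum of two squares of equal valuation. -/
theorem factorization_sq_add {x y t : ℕ} (hx : x ≠ 0) (hy : y ≠ 0)
    (h1 : x.factorization 2 = t) (h2 : y.factorization 2 = t) :
    (x ^ 2 + y ^ 2).factorization 2 = 2 * t + 1 := by
  have key : ∀ z, z ≠ 0 → z.factorization 2 = t → ∃ o, z = 2 ^ t * (2 * o + 1) := fun z hz ht => by
    obtain ⟨o, ho⟩ := Nat.odd_iff.2 (Nat.two_dvd_ne_zero.1 (Nat.not_dvd_ordCompl Nat.prime_two hz))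
    exact ⟨o, by rw [← ho, ← ht]; exact (Nat.ordProj_mul_ordCompl_eq_self z 2).symm⟩
  obtain ⟨a, rfl⟩ := key x hx h1
  obtain ⟨c, rfl⟩ := key y hy h2
  have e : (2 ^ t * (2 * a + 1)) ^ 2 + (2 ^ t * (2 * c + 1)) ^ 2 =
      2 ^ (2 * t + 1) * (2 * (a * a + a + c * c + c) + 1) := by
    rw [pow_succ, show 2 * t = t + t by ring, pow_add]; ring
  rw [e, Nat.factorization_mul (by positivity) (by omega), Finsupp.add_apply,
    Nat.prime_two.factorization_pow, Finsupp.single_eq_same,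
    Nat.factorization_eq_zero_of_not_dvd (by omega), add_zero]

variable {M : Ideal AlgInt} [M.IsPrime] [Fact (Nat.Prime 2)] [CharP (Residue M) 2]
  {G : Type u} [Group G] [Fintype G]

local notation "𝕜" => Residue M
local notation "Z[" x "]" => Subgroup.zpowers x
local notation "C[" Q "]" => Subgroup.centralizer (SetLike.coe Q)

namespace LocData

variable {B : Set (IrrCharacter G)} {D : Subgroup G} {e : MonoidAlgebra (Residue M) G}
  {σ τ : G} {h : ℕ} {S : DihData (M := M) B D e σ τ h} [Fintype C[Z[σ ^ h]]]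
  {f : Set (IrrCharacter C[Z[σ ^ h]])} {e' : MonoidAlgebra (Residue M) C[Z[σ ^ h]]}
  {χ₀ : IrrCharacter C[Z[σ ^ h]]} {Φ : IrrCharacter (D.subgroupOf C[Z[σ ^ h]]) ≃ f}
  (T : LocData S f e' χ₀ Φ)
include T

local notation "P'" => Subgroup.subgroupOf D C[Z[σ ^ h]]

variable [Fintype B]

/-- The sum over the involutions of a member. -/
theorem setSum_invs (hle : Nat.card B ≤ blockRank 2 B + h) (χ : B) :
    setSum (invs G) χ.1 = ((T.rotOrb h).card : ℂ) *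
      ((T.dz χ.1 : ℂ) * (χ₀ : C[Z[σ ^ h]] → ℂ) (S.rot h : C[Z[σ ^ h]])) := by
  have hM := S.hM
  have hh := S.h_pos
  have hexp : setSum (invs G) χ.1 =
      ∑ t ∈ (invs G).sigma (fun u => blks M u), val χ.1 t.1 1 t.2 := by
    rw [setSum, sum_sigma]
    refine sum_congr rfl fun u hu => ?_
    have hp : PElt 2 u 1 := ⟨⟨1, by rw [pow_one, ← (mem_filter.1 hu).2, pow_orderOf_eq_one]⟩,
      by rw [orderOf_one]; exact Nat.prime_two.not_dvd_one, Commute.one_right _⟩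
    have h1 := wsum_const_one (M := M) hM χ.1 hp
    rw [mul_one] at h1
    rw [← h1, wsum]
    exact sum_congr rfl fun d _ => by rw [br_one, one_mul, one_mul]
  have hz : σ ^ h ∈ invs G := mem_filter.2 ⟨mem_univ _, S.orderOf_z⟩
  have hsub : T.rotOrb h ⊆ (invs G).sigma (fun u => blks M u) := by
    rintro ⟨x, d⟩ ht
    have hd := (mem_pairSet.1 (orb_subset (T.rot_pSet h) (T.rot_blk h) ht)).2
    obtain ⟨g, hg, -⟩ := mem_orb.1 ht
    exact mem_sigma.2 ⟨hg ▸ invs_conj hz g, mem_blks.2 hd⟩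
  rw [hexp, ← sum_subset hsub fun t ht hn => ?_]
  · have hval : val χ.1 (σ ^ h) 1 (subBlk 2 D e (σ ^ h)) =
        (T.dz χ.1 : ℂ) * (χ₀ : C[Z[σ ^ h]] → ℂ) (S.rot h : C[Z[σ ^ h]]) := by
      rw [T.val_z_th, T.th_dz]
    have hs : PElt 2 (σ ^ h) 1 := ⟨mem_pSet.1 (T.rot_pSet h),
      by rw [orderOf_one]; exact Nat.prime_two.not_dvd_one, Commute.one_right _⟩
    rw [← hval, ← nsmul_eq_mul, ← sum_const]
    refine sum_congr rfl ?_
    rintro ⟨x, d⟩ htt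
    obtain ⟨g, hg, hgd⟩ := mem_orb.1 htt
    subst hg hgd
    exact val_cj hM χ.1 hs g (by rw [mul_one, mul_inv_cancel]) (T.rot_blk h).idem
      ((T.rot_blk h).fixBy.mono (sup_le_cz hs))
  · obtain ⟨u, d⟩ := t
    obtain ⟨hu, hd⟩ := mem_sigma.1 ht
    have ho : orderOf u = 2 := (mem_filter.1 hu).2
    refine T.val_others hle χ (mem_filter.2 ⟨mem_pairSet.2 ⟨mem_pSet.2 ⟨1, by
      rw [pow_one, ← ho, pow_orderOf_eq_one]⟩, mem_blks.1 hd⟩, fun e1 => ?_, fun hm => ?_⟩)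
    · rw [show u = 1 from e1, orderOf_one] at ho; omega
    · obtain ⟨i, hi, hti⟩ := mem_biUnion.1 hm
      obtain ⟨g, hg, -⟩ := mem_orb.1 hti
      obtain ⟨h1, h2⟩ := mem_Icc.1 hi
      have hoi : orderOf (σ ^ i) = 2 := by
        rw [← ho, ← hg]
        exact (orderOf_injective (MulAut.conj g).toMonoidHom (MulAut.conj g).injective _).symm
      have h3 := pow_orderOf_eq_one (σ ^ i)
      rw [hoi, ← pow_mul, S.pow_eq_one] at h3
      have h4 := Nat.le_of_dvd (by omega) h3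
      exact hn ((show i = h by omega) ▸ hti)

/-- **Five members are too few.** -/
theorem contradiction (hh4 : h = 4) (hle : Nat.card B ≤ blockRank 2 B + h)
    (hl : blockRank 2 B = 1)
    (hspec : ∀ d : B → ℕ, (∀ i, 0 < d i) → ∑ i, d i ^ 2 = 16 →
      (∀ j ∈ Icc 1 h, ∑ i : B, T.vec i.1 j * (d i : ℤ) = 0) →
      (∃ i : B, blockHeight 2 B ((i : IrrCharacter G) : G → ℂ) = 0 ∧ d i = 1) ∧
        (∑ i : B, (T.dz i.1 : ℚ) ^ 3 / (d i : ℚ) = 64 / 3 ∨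
          ∑ i : B, (T.dz i.1 : ℚ) ^ 3 / (d i : ℚ) = -(64 / 3))) : False := by
  have hM := S.hM
  letI := irrFintype (G := G)
  letI := irrFintype (G := C[Z[σ ^ h]])
  haveI := Fintype.ofFinite P'
  letI := irrFintype (G := P')
  -- the block has defect four
  have hbd : blockDefect 2 B = 4 := by
    have h1 := S.defect
    rw [hh4] at h1
    exact Nat.pow_right_injective le_rfl (h1.trans (by norm_num : 4 * 4 = 2 ^ 4))
  obtain ⟨φ, d, -, hd, hsq⟩ := rank_one_decomposition hM S.hB hl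
  rw [hbd, finsum_mem_eq_sum_of_inter_support_eq (t := univ.filter (· ∈ B)) _ (by ext; simp),
    sum_subtype (univ.filter (· ∈ B)) (p := (· ∈ B)) (by simp) (fun ξ => d ξ ^ 2)] at hsq
  have h1reg : IsPRegular 2 (1 : G) := by simp [IsPRegular]
  have hdeg : ∀ χ : B, (charDegree ((χ : IrrCharacter G) : G → ℂ) : ℂ) = (d χ.1 : ℂ) * φ 1 :=
    fun χ => by rw [← (irr_one χ.1).1]; exact hd χ.1 χ.2 1 h1reg
  have hdpos : ∀ χ : B, 0 < d χ.1 := fun χ => Nat.pos_of_ne_zero fun e0 => by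
    have h1 := hdeg χ
    rw [e0, Nat.cast_zero, zero_mul, Nat.cast_eq_zero] at h1
    exact (irr_one χ.1).2.ne' h1
  have hφ0 : φ 1 ≠ 0 := fun e0 => by
    obtain ⟨χ, hχ, -⟩ := exists_height_zero hM S.hB
    have h1 := hdeg ⟨χ, hχ⟩
    rw [e0, mul_zero, Nat.cast_eq_zero] at h1
    exact (irr_one χ).2.ne' h1
  have horth : ∀ j ∈ Icc 1 h, ∑ i : B, T.vec i.1 j * (d i.1 : ℤ) = 0 := fun j _ => by
    have h1 := congrArg (Int.cast : ℤ → ℂ) (T.sum_vec_deg j)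
    rw [Int.cast_sum, Int.cast_zero] at h1
    simp only [Int.cast_mul, Int.cast_natCast, hdeg, ← mul_assoc, ← Finset.sum_mul] at h1
    exact_mod_cast (mul_eq_zero.1 h1).resolve_right hφ0
  obtain ⟨⟨i₀, hi₀, hd₀⟩, hR⟩ := hspec (fun i => d i.1) hdpos (by rw [hsq]; norm_num) horth
  set m := charDegree ((i₀ : IrrCharacter G) : G → ℂ) with hm
  have hφm : φ 1 = (m : ℂ) := by rw [hm, hdeg i₀, hd₀, Nat.cast_one, one_mul]
  have hm2 : m.factorization 2 + 4 = (Nat.card G).factorization 2 := by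
    rw [hm, factorization_degree hM S.hB i₀.2, hi₀, hbd, add_zero, Nat.sub_add_cancel]
    exact hbd ▸ blockDefect_le (p := 2) B
  -- the base character
  set c0 := charDegree (χ₀ : C[Z[σ ^ h]] → ℂ) with hc0
  have hc2 : c0.factorization 2 + 4 = (Nat.card C[Z[σ ^ h]]).factorization 2 := by
    rw [hc0, factorization_degree hM T.hf T.mem₀, T.h0, T.hbd, hbd, add_zero, Nat.sub_add_cancel]
    exact (T.hbd.trans hbd) ▸ blockDefect_le (p := 2) f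
  set κ : ℂ := (χ₀ : C[Z[σ ^ h]] → ℂ) (S.rot h : C[Z[σ ^ h]]) with hκ
  have hc0ne : c0 ≠ 0 := (irr_one χ₀).2.ne'
  obtain ⟨ε, hε, hκε⟩ : ∃ ε : ℤ, (ε = 1 ∨ ε = -1) ∧ κ = (ε : ℂ) * (c0 : ℂ) := by
    rcases T.apply_z with e1 | e1
    · exact ⟨1, Or.inl rfl, by rw [hκ, e1]; simp [hc0]⟩
    · exact ⟨-1, Or.inr rfl, by rw [hκ, e1]; simp [hc0]⟩
  obtain ⟨K₁, K₂, k10, k20, k12, k22, hsum⟩ := T.exists_setSum
  obtain ⟨s1, s2, s3⟩ := T.sum_refl
  set N := (T.rotOrb h).card with hN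
  have hNL : N * Nat.card C[Z[σ ^ h]] = Nat.card G := card_orb (T.rot_blk h)
  -- the side of the group
  have hkey := sum_block_eq hM S.orderOf_z T.hf
  rw [T.hfe] at hkey
  have hzero : ∀ χ : IrrCharacter G, χ ∉ B → val χ (σ ^ h) 1 (subBlk 2 D e (σ ^ h)) = 0 := by
    intro χ hχ
    have hz : σ ^ h ∈ D := S.pow_mem_D h
    have hpair : IsPairOf 2 (idem M B) (Z[σ ^ h], idemIn M C[Z[σ ^ h]] f) := by
      rw [T.hfe]
      exact (isPairOf_iff_of_ple (isBlk_idem hM S.hB) (subBlk_ple S.pair hz) S.pair).2 S.hmax.1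
    have hind := isInducedBlock_of_isBrauerPairOf hM (zpowers_le_centralizer_zpowers _)
      ((isBrauerPairOf_iff hM).2 ⟨⟨hpair.1.1, T.hf⟩, S.hB, hpair⟩)
    have hs : PElt 2 (σ ^ h) 1 := ⟨mem_pSet.1 (T.rot_pSet h),
      by rw [orderOf_one]; exact Nat.prime_two.not_dvd_one, Commute.one_right _⟩
    rw [← T.hfe, val_idemIn hM χ hs T.hf, subPart_eq_zero_of_not_mem hM
      (CfsgLib.BlockB.centralizer_zpowers_eq (σ ^ h)) (k := 1) (by rw [S.orderOf_z, pow_one])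
      hind hχ]
    rfl
  have hG : ∑ χ : IrrCharacter G, setSum (invs G) χ ^ 2 / (χ : G → ℂ) 1 *
        val χ (σ ^ h) 1 (subBlk 2 D e (σ ^ h)) =
      (N : ℂ) ^ 2 * κ ^ 3 / (m : ℂ) * ∑ χ : B, (T.dz χ.1 : ℂ) ^ 3 / (d χ.1 : ℂ) := by
    rw [← sum_subset (subset_univ (univ.filter (· ∈ B))) (fun χ _ hχ => by
      rw [hzero χ fun hm' => hχ (mem_filter.2 ⟨mem_univ _, hm'⟩), mul_zero]),
      sum_subtype (univ.filter (· ∈ B)) (p := (· ∈ B)) (by simp)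
        (fun χ : IrrCharacter G => setSum (invs G) χ ^ 2 / (χ : G → ℂ) 1 *
          val χ (σ ^ h) 1 (subBlk 2 D e (σ ^ h))), mul_sum]
    refine sum_congr rfl fun χ _ => ?_
    rw [T.setSum_invs hle χ, T.val_z_th, T.th_dz, (irr_one χ.1).1, hdeg χ, hφm]
    simp only [← hN, ← hκ]
    have h1 : (d χ.1 : ℂ) ≠ 0 := Nat.cast_ne_zero.2 (hdpos χ).ne'
    have h2 : (m : ℂ) ≠ 0 := hφm ▸ hφ0
    field_simp
  -- the side of the centralizer
  have hz' : (⟨σ ^ h, mem_cz.2 rfl⟩ : C[Z[σ ^ h]]) = (S.rot h : C[Z[σ ^ h]]) := rfl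
  have hL : ∑ ξ ∈ univ.filter (· ∈ f), setSum (invs' (z := σ ^ h)) ξ ^ 2 /
        (ξ : C[Z[σ ^ h]] → ℂ) 1 * (ξ : C[Z[σ ^ h]] → ℂ) ⟨σ ^ h, mem_cz.2 rfl⟩ =
      κ / (c0 : ℂ) * (4 * ((K₁ : ℂ) ^ 2 + (K₂ : ℂ) ^ 2)) := by
    rw [sum_subtype (univ.filter (· ∈ f)) (p := (· ∈ f)) (by simp)
        (fun ξ : IrrCharacter C[Z[σ ^ h]] => setSum (invs' (z := σ ^ h)) ξ ^ 2 /
          (ξ : C[Z[σ ^ h]] → ℂ) 1 * (ξ : C[Z[σ ^ h]] → ℂ) ⟨σ ^ h, mem_cz.2 rfl⟩),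
      ← Φ.sum_comp]
    have hterm : ∀ ζ : IrrCharacter P', setSum (invs' (z := σ ^ h)) (Φ ζ).1 ^ 2 /
        ((Φ ζ).1 : C[Z[σ ^ h]] → ℂ) 1 * ((Φ ζ).1 : C[Z[σ ^ h]] → ℂ) ⟨σ ^ h, mem_cz.2 rfl⟩ =
        κ / (c0 : ℂ) * ((K₁ : ℂ) ^ 2 * ((ζ : P' → ℂ) (S.refl 0) * (ζ : P' → ℂ) (S.refl 0) *
            ((ζ : P' → ℂ) (S.rot h) / (ζ : P' → ℂ) 1)) +
          (K₂ : ℂ) ^ 2 * ((ζ : P' → ℂ) (S.refl 1) * (ζ : P' → ℂ) (S.refl 1) *
            ((ζ : P' → ℂ) (S.rot h) / (ζ : P' → ℂ) 1)) +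
          2 * (K₁ : ℂ) * (K₂ : ℂ) * ((ζ : P' → ℂ) (S.refl 0) * (ζ : P' → ℂ) (S.refl 1) *
            ((ζ : P' → ℂ) (S.rot h) / (ζ : P' → ℂ) 1))) := by
      intro ζ
      have hone := T.hreg ζ 1 (by rw [orderOf_one]; exact Nat.prime_two.not_dvd_one)
      rw [(irr_one χ₀).1, ← hc0, ← (irr_one ζ).1] at hone
      have hzval : ((Φ ζ).1 : C[Z[σ ^ h]] → ℂ) ⟨σ ^ h, mem_cz.2 rfl⟩ =
          (ζ : P' → ℂ) (S.rot h) * κ := by
        rw [hz', ← T.val_z (Φ ζ).2, T.val_self ζ (S.rot h) 1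
          ⟨mem_pSet.1 (mem_pSet_of_mem T.hP' (S.rot h).2),
            by rw [orderOf_one]; exact Nat.prime_two.not_dvd_one, Commute.one_right _⟩,
          T.val_z T.mem₀]
      rw [hsum ζ, hzval, hone]
      have h1 := irr_one_ne_zero ζ
      have h2 : (c0 : ℂ) ≠ 0 := Nat.cast_ne_zero.2 hc0ne
      field_simp
      ring
    rw [sum_congr rfl fun ζ _ => hterm ζ]
    simp only [← mul_sum, sum_add_distrib, s1, s2, s3]
    ring
  rw [hG, hL] at hkey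
  -- compare
  have hR' : ∃ R : ℤ, (R = 64 ∨ R = -64) ∧
      3 * ∑ χ : B, (T.dz χ.1 : ℂ) ^ 3 / (d χ.1 : ℂ) = (R : ℂ) := by
    have hcast : ∀ q : ℚ, ∑ χ : B, (T.dz χ.1 : ℚ) ^ 3 / (d χ.1 : ℚ) = q →
        ∑ χ : B, (T.dz χ.1 : ℂ) ^ 3 / (d χ.1 : ℂ) = (q : ℂ) := fun q hq => by
      rw [← hq, Rat.cast_sum]
      exact sum_congr rfl fun χ _ => by simp
    rcases hR with e1 | e1
    · exact ⟨64, Or.inl rfl, by rw [hcast _ e1]; norm_num⟩
    · exact ⟨-64, Or.inr rfl, by rw [hcast _ e1]; norm_num⟩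
  obtain ⟨R, hR64, hR3⟩ := hR'
  have hG0 : (Nat.card G : ℂ) ≠ 0 := Nat.cast_ne_zero.2 Nat.card_pos.ne'
  have hL0 : (Nat.card C[Z[σ ^ h]] : ℂ) ≠ 0 := Nat.cast_ne_zero.2 Nat.card_pos.ne'
  have hm0 : (m : ℂ) ≠ 0 := hφm ▸ hφ0
  have hc0' : (c0 : ℂ) ≠ 0 := Nat.cast_ne_zero.2 hc0ne
  have hε2 : (ε : ℂ) * (ε : ℂ) = 1 := by rcases hε with rfl | rfl <;> simp
  have hNc : (Nat.card G : ℂ) = (N : ℂ) * (Nat.card C[Z[σ ^ h]] : ℂ) := by exact_mod_cast hNL.symm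
  have hN0 : (N : ℂ) ≠ 0 := fun e1 => hG0 (by rw [hNc, e1, zero_mul])
  have hε0 : (ε : ℂ) ≠ 0 := left_ne_zero_of_mul_eq_one hε2
  set S₃ := ∑ χ : B, (T.dz χ.1 : ℂ) ^ 3 / (d χ.1 : ℂ)
  rw [hκε, hNc] at hkey
  field_simp at hkey
  have heq : (R : ℂ) * (Nat.card G : ℂ) * (c0 : ℂ) ^ 3 =
      12 * ((K₁ : ℂ) ^ 2 + (K₂ : ℂ) ^ 2) * (Nat.card C[Z[σ ^ h]] : ℂ) * (m : ℂ) := by
    have hsq3 : (ε : ℂ) ^ 2 = 1 := by rw [sq, hε2]
    rw [← hR3, hNc]
    linear_combination (3 * (Nat.card C[Z[σ ^ h]] : ℂ)) * hkey +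
      (-(3 * (N : ℂ) * (Nat.card C[Z[σ ^ h]] : ℂ) * (c0 : ℂ) ^ 3 * S₃)) * hsq3
  have heqZ : R * (Nat.card G : ℤ) * (c0 : ℤ) ^ 3 =
      12 * (K₁ ^ 2 + K₂ ^ 2) * (Nat.card C[Z[σ ^ h]] : ℤ) * (m : ℤ) := by exact_mod_cast heq
  have heqN : 16 * Nat.card G * c0 ^ 3 =
      3 * (K₁.natAbs ^ 2 + K₂.natAbs ^ 2) * Nat.card C[Z[σ ^ h]] * m := by
    have h1 : ((K₁.natAbs ^ 2 + K₂.natAbs ^ 2 : ℕ) : ℤ) = K₁ ^ 2 + K₂ ^ 2 := by
      push_cast; rw [sq_abs, sq_abs]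
    have h2 := congrArg Int.natAbs heqZ
    rw [← h1] at h2
    simp only [Int.natAbs_mul, Int.natAbs_pow, Int.natAbs_natCast] at h2
    rcases hR64 with rfl | rfl <;> simp [Nat.card_eq_fintype_card] at h2 ⊢ <;> linarith
  have hmne : m ≠ 0 := (irr_one _).2.ne'
  have hgne : Nat.card G ≠ 0 := Nat.card_pos.ne'
  have hlne : Nat.card C[Z[σ ^ h]] ≠ 0 := Nat.card_pos.ne'
  have hsqne : K₁.natAbs ^ 2 + K₂.natAbs ^ 2 ≠ 0 := by
    have := Nat.pos_of_ne_zero (Int.natAbs_ne_zero.2 k10)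
    positivity
  have h5 := congrArg (fun n : ℕ => n.factorization 2) heqN
  simp only [Nat.factorization_mul, ne_eq, mul_eq_zero, pow_eq_zero_iff, hgne, hc0ne, hsqne,
    hlne, hmne, OfNat.ofNat_ne_zero, or_self, not_false_eq_true, Finsupp.add_apply,
    Nat.factorization_pow, Finsupp.smul_apply, smul_eq_mul] at h5
  rw [factorization_sq_add (t := (Nat.card C[Z[σ ^ h]]).factorization 2 - 2)
    (Int.natAbs_ne_zero.2 k10) (Int.natAbs_ne_zero.2 k20) (by omega) (by omega),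
    show (16 : ℕ) = 2 ^ 4 by norm_num, Nat.prime_two.factorization_pow, Finsupp.single_eq_same,
    Nat.factorization_eq_zero_of_not_dvd (show ¬ 2 ∣ 3 by norm_num)] at h5
  omega

end LocData

end CfsgLib.DihDefect
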