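import Cfsg.Agent.BlocksB.DihedralDefect.Relations
import Cfsg.Agent.BlocksB.MajorValuation

/-!
# A block with dihedral defect group: the integral vectors and the heights
-/

set_option autoImplicit false
set_option linter.style.haveILetI false
set_option linter.unusedSectionVars false

namespace CfsgLib.DihDefect

open Cfsg Finset CfsgLib.Block CfsgLib.Block.Chr CfsgLib.BrauerPairs CfsgLib.BlockStar
  CfsgLib.BlockB
open scoped ComplexConjugate
open scoped Classical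

universe u

variable {M : Ideal AlgInt} [M.IsPrime] [Fact (Nat.Prime 2)] [CharP (Residue M) 2]
  {G : Type u} [Group G] [Fintype G]

local notation "𝕜" => Residue M
local notation "Z[" x "]" => Subgroup.zpowers x
local notation "C[" Q "]" => Subgroup.centralizer (SetLike.coe Q)

/-- The root of unity. -/
noncomputable def om (h : ℕ) : ℂ :=
  Complex.exp (2 * Real.pi * Complex.I / ((2 * h : ℕ) : ℂ))

theorem om_spec {h : ℕ} (hh : 0 < h) : IsPrimitiveRoot (om h) (2 * h) :=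
  Complex.isPrimitiveRoot_exp (2 * h) (by omega)

/-- Sums of powers of the root of unity. -/
theorem sum_om {h : ℕ} (hh : 0 < h) (n : ℕ) :
    ∑ i ∈ range (2 * h), om h ^ (i * n) = if 2 * h ∣ n then ((2 * h : ℕ) : ℂ) else 0 := by
  have hω := om_spec hh
  simp only [mul_comm _ n, pow_mul]
  split_ifs with hd
  · rw [(hω.pow_eq_one_iff_dvd n).2 hd]; simp
  · have h1 : om h ^ n ≠ 1 := fun e1 => hd ((hω.pow_eq_one_iff_dvd n).1 e1)
    rw [geom_sum_eq h1, ← pow_mul, mul_comm, pow_mul, hω.pow_eq_one, one_pow, sub_self, zero_div]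

/-- The two sums in the Gram matrix. -/
theorem sum_gram {h j k : ℕ} (hj : j ∈ Icc 1 h) (hk : k ∈ Icc 1 h) :
    ∑ i ∈ range (2 * h), (om h ^ (i * j) - 1) *
        ((om h ^ (i * k) - 1) + (om h ^ (i * (2 * h - k)) - 1)) =
      ((2 * h : ℕ) : ℂ) * (2 + (if j = k then 1 else 0) + (if j = h ∧ k = h then 1 else 0)) := by
  obtain ⟨hj1, hj2⟩ := mem_Icc.1 hj
  obtain ⟨hk1, hk2⟩ := mem_Icc.1 hk
  have hh : 0 < h := by omega
  have e : ∀ i, (om h ^ (i * j) - 1) *
        ((om h ^ (i * k) - 1) + (om h ^ (i * (2 * h - k)) - 1)) =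
      om h ^ (i * (j + k)) + om h ^ (i * (j + (2 * h - k))) - 2 * om h ^ (i * j)
        - om h ^ (i * k) - om h ^ (i * (2 * h - k)) + 2 := fun i => by
    simp only [Nat.mul_add, pow_add]; ring
  simp only [e, sum_add_distrib, sum_sub_distrib, ← mul_sum, sum_om hh]
  have d1 : ∀ n, 1 ≤ n → n < 2 * h → ¬ 2 * h ∣ n := fun n h1 h2 hd => by
    have := Nat.le_of_dvd h1 hd; omega
  have d2 : 2 * h ∣ j + k ↔ j = h ∧ k = h := by
    refine ⟨fun hd => ?_, fun ⟨a, b⟩ => by rw [a, b, two_mul]⟩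
    have := Nat.le_of_dvd (by omega) hd; omega
  have d3 : 2 * h ∣ j + (2 * h - k) ↔ j = k := by
    refine ⟨fun hd => ?_, fun a => by rw [a, Nat.add_sub_cancel' (by omega)]⟩
    obtain ⟨c, hc⟩ := hd
    have : c = 1 := by
      rcases Nat.lt_or_ge c 1 with h1 | h1
      · interval_cases c; omega
      · rcases Nat.lt_or_ge c 2 with h2 | h2
        · omega
        · have := Nat.mul_le_mul_left (2 * h) h2; omega
    subst this; omega
  rw [if_neg (d1 j hj1 (by omega)), if_neg (d1 k hk1 (by omega)),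
    if_neg (d1 (2 * h - k) (by omega) (by omega))]
  simp only [d2, d3, sum_const, card_range, nsmul_eq_mul]
  split_ifs <;> push_cast <;> ring

namespace LocData

variable {B : Set (IrrCharacter G)} {D : Subgroup G} {e : MonoidAlgebra (Residue M) G}
  {σ τ : G} {h : ℕ} {S : DihData (M := M) B D e σ τ h} [Fintype C[Z[σ ^ h]]]
  {f : Set (IrrCharacter C[Z[σ ^ h]])} {e' : MonoidAlgebra (Residue M) C[Z[σ ^ h]]}
  {χ₀ : IrrCharacter C[Z[σ ^ h]]} {Φ : IrrCharacter (D.subgroupOf C[Z[σ ^ h]]) ≃ f}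
  (T : LocData S f e' χ₀ Φ)
include T

/-- The multiplicities of the characters of the rotation group. -/
noncomputable def co (χ : IrrCharacter G) (j : ℕ) : ℤ :=
  (T.exists_coeff (om_spec S.h_pos) χ j).choose

theorem co_spec (χ : IrrCharacter G) (j : ℕ) :
    ∑ i ∈ range (2 * h), (T.th χ i : ℂ) * om h ^ (i * j) =
      ((2 * h : ℕ) : ℂ) * (T.co χ j : ℂ) :=
  (T.exists_coeff (om_spec S.h_pos) χ j).choose_spec

theorem two_h_ne : ((2 * h : ℕ) : ℂ) ≠ 0 :=
  Nat.cast_ne_zero.2 (by have := S.h_pos; omega)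

theorem co_symm (χ : IrrCharacter G) {j : ℕ} (hj : j ≤ 2 * h) :
    T.co χ (2 * h - j) = T.co χ j := by
  have hω := om_spec S.h_pos
  have hconj : ∀ i, conj (om h ^ (i * j)) = om h ^ (i * (2 * h - j)) := fun i => by
    have hu : ‖om h‖ = 1 := hω.norm'_eq_one (by have := S.h_pos; omega)
    rw [← Complex.inv_eq_conj (by rw [norm_pow, hu, one_pow])]
    refine inv_eq_of_mul_eq_one_right ?_
    rw [← pow_add, ← Nat.mul_add, Nat.add_sub_cancel' hj, mul_comm i, pow_mul, hω.pow_eq_one,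
      one_pow]
  have h1 := congrArg conj (T.co_spec χ j)
  simp only [map_sum, map_mul, Complex.conj_ofReal, hconj, map_natCast, map_intCast] at h1
  exact_mod_cast mul_left_cancel₀ T.two_h_ne ((T.co_spec χ (2 * h - j)).symm.trans h1)

/-- The integral value at the central involution. -/
noncomputable def dz (χ : IrrCharacter G) : ℤ :=
  ∑ l ∈ range (2 * h), (-1) ^ l * T.co χ l

theorem th_dz (χ : IrrCharacter G) : (T.th χ h : ℂ) = (T.dz χ : ℂ) := by
  have hω := om_spec S.h_pos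
  have hh := S.h_pos
  have hneg : om h ^ h = -1 :=
    (mul_self_eq_one_iff.1 (by rw [← pow_add, ← two_mul, hω.pow_eq_one])).resolve_left
      (fun e1 => by
        have := Nat.le_of_dvd hh ((hω.pow_eq_one_iff_dvd h).1 e1); omega)
  apply mul_left_cancel₀ T.two_h_ne
  calc ((2 * h : ℕ) : ℂ) * (T.th χ h : ℂ)
      = ∑ i ∈ range (2 * h), (T.th χ i : ℂ) * if 2 * h ∣ h + i then ((2 * h : ℕ) : ℂ) else 0 := by
        rw [sum_eq_single_of_mem h (mem_range.2 (by omega)) fun i hi hne => by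
          rw [if_neg, mul_zero]
          intro hd
          have hlt := mem_range.1 hi
          obtain ⟨c, hc⟩ := hd
          rcases Nat.lt_or_ge c 2 with h2 | h2
          · interval_cases c <;> omega
          · have := Nat.mul_le_mul_left (2 * h) h2; omega,
          if_pos (by rw [two_mul]), mul_comm]
    _ = ∑ i ∈ range (2 * h), ∑ l ∈ range (2 * h),
          (-1) ^ l * ((T.th χ i : ℂ) * om h ^ (i * l)) := by
        refine sum_congr rfl fun i _ => ?_
        rw [← sum_om hh, mul_sum]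
        refine sum_congr rfl fun l _ => ?_
        rw [Nat.mul_add, pow_add, mul_comm l h, pow_mul, hneg, mul_comm l i]
        ring
    _ = _ := by
        rw [sum_comm, dz, Int.cast_sum, mul_sum]
        refine sum_congr rfl fun l _ => ?_
        rw [← mul_sum, T.co_spec]
        push_cast
        ring

/-- The vectors of the subsections. -/
noncomputable def vec (χ : IrrCharacter G) (j : ℕ) : ℤ := T.co χ j - T.co χ 0

theorem vec_spec (χ : IrrCharacter G) (j : ℕ) :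
    ∑ i ∈ range (2 * h), (T.th χ i : ℂ) * (om h ^ (i * j) - 1) =
      ((2 * h : ℕ) : ℂ) * (T.vec χ j : ℂ) := by
  rw [vec, Int.cast_sub, mul_sub, ← T.co_spec, ← T.co_spec χ 0]
  simp [mul_sub, sum_sub_distrib]

/-- **The value at the central involution by the vectors.** -/
theorem dz_eq_vec (χ : IrrCharacter G) :
    T.dz χ = T.vec χ h + 2 * ∑ l ∈ Ico 1 h, (-1) ^ l * T.vec χ l := by
  have hh := S.h_pos
  obtain ⟨k, hk⟩ := S.h_even
  have hev : (-1 : ℤ) ^ h = 1 := (Even.neg_one_pow ⟨k, by omega⟩)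
  have h0 : ∑ l ∈ range (2 * h), (-1 : ℤ) ^ l * T.co χ 0 = 0 := by
    rw [← Finset.sum_mul]
    simp [neg_one_geom_sum]
  have h1 : T.dz χ = ∑ l ∈ range (2 * h), (-1 : ℤ) ^ l * T.vec χ l := by
    simp only [vec, mul_sub, sum_sub_distrib, h0, sub_zero, dz]
  have h2 : ∑ l ∈ Ico (h + 1) (2 * h), (-1 : ℤ) ^ l * T.vec χ l =
      ∑ l ∈ Ico 1 h, (-1 : ℤ) ^ l * T.vec χ l := by
    refine sum_bij' (fun l _ => 2 * h - l) (fun l _ => 2 * h - l)
      (fun l hl => ?_) (fun l hl => ?_) (fun l hl => ?_) (fun l hl => ?_) fun l hl => ?_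
    · simp only [mem_Ico] at hl ⊢; omega
    · simp only [mem_Ico] at hl ⊢; omega
    · simp only [mem_Ico] at hl; omega
    · simp only [mem_Ico] at hl; omega
    · simp only [mem_Ico] at hl
      rw [vec, vec, T.co_symm χ (by omega)]
      congr 1
      rw [neg_one_pow_congr]
      rw [Nat.even_sub (by omega)]
      simp
  rw [h1, range_eq_Ico, ← sum_Ico_consecutive _ (Nat.zero_le h) (by omega : h ≤ 2 * h),
    sum_eq_sum_Ico_succ_bot hh, sum_eq_sum_Ico_succ_bot (by omega : h < 2 * h), h2,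
    show T.vec χ 0 = 0 from sub_self _, hev]
  ring

variable [Fintype B]

/-- The index in `[1, h]` of a rotation. -/
theorem th_red (χ : IrrCharacter G) {i : ℕ} (hi : i < 2 * h) (_hi0 : i ≠ 0) :
    T.th χ i = T.th χ (min i (2 * h - i)) := by
  rcases le_total i (2 * h - i) with h1 | h1
  · rw [min_eq_left h1]
  · rw [min_eq_right h1, T.th_neg χ (by omega)]

theorem sum_th_th {i i' : ℕ} (hi : i < 2 * h) (hi0 : i ≠ 0) (hi' : i' < 2 * h) (hi0' : i' ≠ 0) :
    ∑ χ : B, (T.th χ.1 i : ℂ) * (T.th χ.1 i' : ℂ) =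
      ((2 * h : ℕ) : ℂ) * ((if i' = i then 1 else 0) + (if i' = 2 * h - i then 1 else 0)) := by
  have hmem : ∀ n, n < 2 * h → n ≠ 0 → min n (2 * h - n) ∈ Icc 1 h :=
    fun n h1 h2 => mem_Icc.2 ⟨by omega, by omega⟩
  simp only [T.th_red _ hi hi0, T.th_red _ hi' hi0', ← Complex.ofReal_mul, ← Complex.ofReal_sum]
  by_cases heq : min i (2 * h - i) = min i' (2 * h - i')
  · rw [← heq, sum_congr rfl fun χ _ => (sq (T.th (χ : B).1 (min i (2 * h - i)))).symm,
      T.sum_sq (hmem i hi hi0)]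
    rcases (show i' = i ∨ i' = 2 * h - i by omega) with e1 | e1
    all_goals
      subst e1
      push_cast
      split_ifs <;> (first | omega | (push_cast; ring1))
  · rw [T.sum_mul (hmem i hi hi0) (hmem i' hi' hi0') heq, if_neg (fun e1 => heq (by rw [e1])),
      if_neg (fun e1 => heq (by omega))]
    simp

/-- **The Gram matrix of the vectors.** -/
theorem gram {j k : ℕ} (hj : j ∈ Icc 1 h) (hk : k ∈ Icc 1 h) :
    ∑ χ : B, T.vec χ.1 j * T.vec χ.1 k =
      2 + (if j = k then 1 else 0) + (if j = h ∧ k = h then 1 else 0) := by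
  have hne := T.two_h_ne
  have key : ∀ i ∈ range (2 * h), ∑ i' ∈ range (2 * h), ((om h ^ (i * j) - 1) *
      (om h ^ (i' * k) - 1)) * ∑ χ : B, (T.th χ.1 i : ℂ) * (T.th χ.1 i' : ℂ) =
      ((2 * h : ℕ) : ℂ) * ((om h ^ (i * j) - 1) *
        ((om h ^ (i * k) - 1) + (om h ^ (i * (2 * h - k)) - 1))) := by
    intro i hi
    have hlt := mem_range.1 hi
    by_cases hi0 : i = 0
    · subst hi0; simp
    have hterm : ∀ i' ∈ range (2 * h), ((om h ^ (i * j) - 1) * (om h ^ (i' * k) - 1)) *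
        ∑ χ : B, (T.th χ.1 i : ℂ) * (T.th χ.1 i' : ℂ) =
        ((om h ^ (i * j) - 1) * (om h ^ (i' * k) - 1)) * (((2 * h : ℕ) : ℂ) *
          ((if i' = i then 1 else 0) + (if i' = 2 * h - i then 1 else 0))) := fun i' hi' => by
      by_cases h0 : i' = 0
      · subst h0; simp
      · rw [T.sum_th_th hlt hi0 (mem_range.1 hi') h0]
    have hex : om h ^ ((2 * h - i) * k) = om h ^ (i * (2 * h - k)) := by
      obtain ⟨-, hk2⟩ := mem_Icc.1 hk
      have hω := om_spec S.h_pos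
      have hz : ∀ n, om h ^ (2 * h * n) = 1 := fun n => by rw [pow_mul, hω.pow_eq_one, one_pow]
      apply mul_right_cancel₀ (pow_ne_zero (i * k) (hω.ne_zero (by omega)))
      rw [← pow_add, ← pow_add, ← Nat.add_mul, Nat.sub_add_cancel hlt.le, ← Nat.mul_add,
        Nat.sub_add_cancel (by omega : k ≤ 2 * h), mul_comm i, hz, hz]
    rw [sum_congr rfl hterm]
    simp only [mul_add, mul_ite, mul_one, mul_zero, sum_add_distrib, sum_ite_eq', mem_range, hlt,
      if_true, show 2 * h - i < 2 * h by omega, hex]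
    ring
  have h1 : ((2 * h : ℕ) : ℂ) * (((2 * h : ℕ) : ℂ) *
      ∑ χ : B, (T.vec χ.1 j : ℂ) * (T.vec χ.1 k : ℂ)) =
      ((2 * h : ℕ) : ℂ) * (((2 * h : ℕ) : ℂ) *
        (2 + (if j = k then 1 else 0) + (if j = h ∧ k = h then 1 else 0))) := by
    rw [← sum_gram hj hk, mul_sum, mul_sum, mul_sum]
    calc ∑ χ : B, ((2 * h : ℕ) : ℂ) * (((2 * h : ℕ) : ℂ) * ((T.vec χ.1 j : ℂ) * (T.vec χ.1 k : ℂ)))
        = ∑ χ : B, ∑ i ∈ range (2 * h), ∑ i' ∈ range (2 * h),
            ((om h ^ (i * j) - 1) * (om h ^ (i' * k) - 1)) *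
              ((T.th χ.1 i : ℂ) * (T.th χ.1 i' : ℂ)) := by
          refine sum_congr rfl fun χ _ => ?_
          rw [show ((2 * h : ℕ) : ℂ) * (((2 * h : ℕ) : ℂ) *
              ((T.vec χ.1 j : ℂ) * (T.vec χ.1 k : ℂ))) =
            (((2 * h : ℕ) : ℂ) * (T.vec χ.1 j : ℂ)) * (((2 * h : ℕ) : ℂ) * (T.vec χ.1 k : ℂ))
            by ring, ← T.vec_spec, ← T.vec_spec, sum_mul_sum]
          exact sum_congr rfl fun i _ => sum_congr rfl fun i' _ => by ring
      _ = _ := by
          rw [sum_comm]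
          refine sum_congr rfl fun i hi => ?_
          rw [sum_comm, ← key i hi]
          exact sum_congr rfl fun i' _ => (mul_sum _ _ _).symm
  exact_mod_cast mul_left_cancel₀ hne (mul_left_cancel₀ hne h1)

/-- The vectors are orthogonal to the degrees. -/
theorem sum_vec_deg (j : ℕ) :
    ∑ χ : B, T.vec χ.1 j * (charDegree ((χ : IrrCharacter G) : G → ℂ) : ℤ) = 0 := by
  have h1 : ((2 * h : ℕ) : ℂ) *
      ∑ χ : B, (T.vec χ.1 j : ℂ) * (charDegree ((χ : IrrCharacter G) : G → ℂ) : ℂ) = 0 := by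
    rw [mul_sum]
    simp only [← mul_assoc, ← T.vec_spec]
    simp only [Finset.sum_mul]
    rw [sum_comm]
    refine sum_eq_zero fun i hi => ?_
    by_cases hi0 : i = 0
    · subst hi0; simp
    have hlt := mem_range.1 hi
    have h2 := T.sum_deg (j := min i (2 * h - i)) (mem_Icc.2 ⟨by omega, by omega⟩)
    simp only [← T.th_red _ hlt hi0] at h2
    have h3 : ∑ χ : B, (T.th χ.1 i : ℂ) * (charDegree ((χ : IrrCharacter G) : G → ℂ) : ℂ) = 0 := by
      exact_mod_cast h2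
    calc ∑ χ : B, (T.th χ.1 i : ℂ) * (om h ^ (i * j) - 1) *
          (charDegree ((χ : IrrCharacter G) : G → ℂ) : ℂ)
        = (om h ^ (i * j) - 1) * ∑ χ : B, (T.th χ.1 i : ℂ) *
            (charDegree ((χ : IrrCharacter G) : G → ℂ) : ℂ) := by
          rw [mul_sum]; exact sum_congr rfl fun χ _ => by ring
      _ = 0 := by rw [h3, mul_zero]
  exact_mod_cast (mul_eq_zero.1 h1).resolve_left T.two_h_ne

theorem sum_dz_sq : ∑ χ : B, T.dz χ.1 ^ 2 = 4 * h := by
  have h1 := T.sum_sq (i := h) (mem_Icc.2 ⟨S.h_pos, le_rfl⟩)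
  rw [if_pos rfl] at h1
  have h2 : ((∑ χ : B, T.dz χ.1 ^ 2 : ℤ) : ℂ) = ((4 * h : ℤ) : ℂ) := by
    push_cast
    simp only [← T.th_dz]
    exact_mod_cast h1
  exact_mod_cast h2

/-- The contributions at the central involution and the heights. -/
theorem scaled (χ ψ : B) :
    MemLocalRing M ((T.dz χ.1 : ℂ) * (T.dz ψ.1 : ℂ) / ((2 : ℕ) : ℂ) ^
        blockHeight 2 B ((χ : IrrCharacter G) : G → ℂ)) ∧
      (MemLocalIdeal M ((T.dz χ.1 : ℂ) * (T.dz ψ.1 : ℂ) / ((2 : ℕ) : ℂ) ^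
        blockHeight 2 B ((χ : IrrCharacter G) : G → ℂ)) ↔
          blockHeight 2 B ((ψ : IrrCharacter G) : G → ℂ) ≠ 0) := by
  have hM := S.hM
  have hh := S.h_pos
  have hz : σ ^ h ∈ D := S.pow_mem_D h
  have hhI : h ∈ Icc 1 h := mem_Icc.2 ⟨hh, le_rfl⟩
  have hpair : IsPairOf 2 (idem M B) (Z[σ ^ h], idemIn M C[Z[σ ^ h]] f) := by
    rw [T.hfe]
    exact (isPairOf_iff_of_ple (isBlk_idem hM S.hB) (subBlk_ple S.pair hz) S.pair).2 S.hmax.1
  have hind := isInducedBlock_of_isBrauerPairOf hM (zpowers_le_centralizer_zpowers _)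
    ((isBrauerPairOf_iff hM).2 ⟨⟨hpair.1.1, T.hf⟩, S.hB, hpair⟩)
  have hc : CfsgLib.BlockB.contrib 2 f (σ ^ h) χ.1 ψ.1 =
      (T.th χ.1 h : ℂ) * (T.th ψ.1 h : ℂ) * ((4 * h : ℕ) : ℂ)⁻¹ := by
    have h1 := T.contrib_rot χ.1 ψ.1 (T.rot_ne_one hhI)
    rw [T.card_rot hhI, if_pos rfl] at h1
    rw [← h1, ← T.hfe]
    symm
    convert contribR_idemIn hM χ.1 ψ.1 (T.rot_pSet h) (c := f) (by convert T.hf) using 3
  have key := scaled_contrib_height hM (CfsgLib.BlockB.centralizer_zpowers_eq (σ ^ h))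
    (k := 1) (by rw [S.orderOf_z, pow_one]) hind T.hbd χ.2 ψ.2
  rw [hc, T.th_dz, T.th_dz] at key
  have e1 : ((2 : ℕ) : ℂ) ^ blockDefect 2 B *
      ((T.dz χ.1 : ℂ) * (T.dz ψ.1 : ℂ) * ((4 * h : ℕ) : ℂ)⁻¹) =
      (T.dz χ.1 : ℂ) * (T.dz ψ.1 : ℂ) := by
    rw [← Nat.cast_pow, S.defect, mul_left_comm,
      mul_inv_cancel₀ (Nat.cast_ne_zero.2 (by omega)), mul_one]
  rw [e1] at key
  exact key

/-- **The parities and the heights.** -/
theorem dz_props (χ : B) :
    T.dz χ.1 ≠ 0 ∧ (Odd (T.dz χ.1) ↔ blockHeight 2 B ((χ : IrrCharacter G) : G → ℂ) = 0) ∧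
      (2 ≤ blockHeight 2 B ((χ : IrrCharacter G) : G → ℂ) → 4 ∣ T.dz χ.1) := by
  have hM := S.hM
  obtain ⟨ψ, hψ, h0⟩ := exists_height_zero hM S.hB
  have hne := fun hi => (T.scaled χ ⟨ψ, hψ⟩).2.1 hi h0
  set q : ℂ := (T.dz χ.1 : ℂ) * (T.dz ψ : ℂ) /
    ((2 : ℕ) : ℂ) ^ blockHeight 2 B ((χ : IrrCharacter G) : G → ℂ) with hq
  have hring : MemLocalRing M q := (T.scaled χ ⟨ψ, hψ⟩).1
  change ¬ MemLocalIdeal M q at hne
  set m := blockHeight 2 B ((χ : IrrCharacter G) : G → ℂ)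
  have hψodd : ¬ (2 : ℤ) ∣ T.dz ψ := by
    intro hd
    refine (T.scaled ⟨ψ, hψ⟩ ⟨ψ, hψ⟩).2.not.2 (not_not.2 h0) ?_
    rw [h0, pow_zero, div_one, ← Int.cast_mul]
    exact (memLocalIdeal_intCast_iff hM).2 (by exact_mod_cast dvd_mul_of_dvd_left hd _)
  have hprod : ((T.dz χ.1 * T.dz ψ : ℤ) : ℂ) = ((2 : ℕ) : ℂ) ^ m * q := by
    rw [hq, Int.cast_mul]; field_simp
  refine ⟨fun e0 => hne ?_, ?_, fun h2 => ?_⟩
  · rw [hq, e0]; simp [memLocalIdeal_zero]
  · rw [← Int.not_even_iff_odd, even_iff_two_dvd]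
    constructor
    · intro hodd
      by_contra hm
      have h1 : MemLocalIdeal M ((T.dz χ.1 * T.dz ψ : ℤ) : ℂ) := by
        obtain ⟨j, hj⟩ := Nat.exists_eq_succ_of_ne_zero hm
        rw [hprod, hj, pow_succ', mul_assoc]
        refine memLocalIdeal_mul_right (memLocalIdeal_p hM) (memLocalRing_mul ?_ hring)
        rw [← Nat.cast_pow]
        exact memLocalRing_of_isIntegral (isIntegral_natCast_complex _)
      rcases Int.prime_two.dvd_mul.1
        (show (2 : ℤ) ∣ T.dz χ.1 * T.dz ψ by exact_mod_cast (memLocalIdeal_intCast_iff hM).1 h1)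
        with h2 | h2
      exacts [hodd h2, hψodd h2]
    · intro hm hd
      refine hne ?_
      rw [hm, pow_zero, one_mul] at hprod
      rw [← hprod]
      exact (memLocalIdeal_intCast_iff hM).2 (by exact_mod_cast dvd_mul_of_dvd_left hd _)
  · obtain ⟨j, hj⟩ : ∃ j, m = j + 2 := ⟨m - 2, by omega⟩
    have h1 : (2 : ℤ) ∣ T.dz χ.1 := by
      have h1 : MemLocalIdeal M ((T.dz χ.1 * T.dz ψ : ℤ) : ℂ) := by
        rw [hprod, hj, pow_succ', mul_assoc]
        refine memLocalIdeal_mul_right (memLocalIdeal_p hM) (memLocalRing_mul ?_ hring)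
        rw [← Nat.cast_pow]
        exact memLocalRing_of_isIntegral (isIntegral_natCast_complex _)
      rcases Int.prime_two.dvd_mul.1
        (show (2 : ℤ) ∣ T.dz χ.1 * T.dz ψ by exact_mod_cast (memLocalIdeal_intCast_iff hM).1 h1)
        with h2 | h2
      exacts [h2, absurd h2 hψodd]
    obtain ⟨a, ha⟩ := h1
    have h3 : MemLocalIdeal M ((a * T.dz ψ : ℤ) : ℂ) := by
      have e2 : ((a * T.dz ψ : ℤ) : ℂ) = ((2 : ℕ) : ℂ) * (((2 : ℕ) : ℂ) ^ j * q) := by
        apply mul_left_cancel₀ (two_ne_zero (α := ℂ))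
        calc (2 : ℂ) * ((a * T.dz ψ : ℤ) : ℂ) = ((T.dz χ.1 * T.dz ψ : ℤ) : ℂ) := by
              rw [ha]; push_cast; ring
          _ = _ := by rw [hprod, hj]; push_cast; ring
      rw [e2]
      refine memLocalIdeal_mul_right (memLocalIdeal_p hM) (memLocalRing_mul ?_ hring)
      rw [← Nat.cast_pow]
      exact memLocalRing_of_isIntegral (isIntegral_natCast_complex _)
    rcases Int.prime_two.dvd_mul.1
      (show (2 : ℤ) ∣ a * T.dz ψ by exact_mod_cast (memLocalIdeal_intCast_iff hM).1 h3)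
      with ⟨b, hb⟩ | h2
    · exact ⟨b, by rw [ha, hb]; ring⟩
    · exact absurd h2 hψodd

end LocData

end CfsgLib.DihDefect
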