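import Cfsg.Agent.BlocksB.Star.Nilpotent
import Cfsg.Agent.BrauerPairs.NilpotentSystem

/-!
# The block below a maximal pair at a central element, and odd automorphisms of dihedral groups
-/

set_option autoImplicit false
set_option linter.style.haveILetI false
set_option linter.unusedSectionVars false

namespace CfsgLib.DihDefect

open Cfsg Finset CfsgLib.Block CfsgLib.Block.Chr CfsgLib.BrauerPairs CfsgLib.BlockStar
open scoped Classical

universe u

/-- Conjugation by the powers of `t` when `t` moves `x` by a fixed element `c`. -/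
theorem pow_conj_mul {G : Type u} [Group G] {t x c : G} (hx : t * x * t⁻¹ = x * c)
    (hc : t * c * t⁻¹ = c) (k : ℕ) : t ^ k * x * (t ^ k)⁻¹ = x * c ^ k := by
  have hc' : ∀ j : ℕ, t * c ^ j * t⁻¹ = c ^ j := fun j => by rw [← conj_pow, hc]
  induction k with
  | zero => simp
  | succ k ih =>
    calc t ^ (k + 1) * x * (t ^ (k + 1))⁻¹ = t * (t ^ k * x * (t ^ k)⁻¹) * t⁻¹ := by
          rw [pow_succ', mul_inv_rev]; group
      _ = t * (x * c ^ k) * t⁻¹ := by rw [ih]
      _ = (t * x * t⁻¹) * (t * c ^ k * t⁻¹) := by group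
      _ = x * c ^ (k + 1) := by rw [hx, hc', pow_succ', mul_assoc]

/-- An element of odd order that moves `x` by a fixed `2`-element fixes it. -/
theorem eq_self_of_odd {G : Type u} [Group G] {t x c : G}
    (hx : t * x * t⁻¹ = x * c) (hc : t * c * t⁻¹ = c) (hodd : ¬ 2 ∣ orderOf t)
    (hc2 : ∃ j : ℕ, c ^ 2 ^ j = 1) : t * x * t⁻¹ = x := by
  have h1 := pow_conj_mul hx hc (orderOf t)
  rw [pow_orderOf_eq_one, one_mul, inv_one, mul_one, left_eq_mul] at h1
  obtain ⟨j, hj⟩ := hc2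
  have h2 : c = 1 := by
    rw [← pow_one c, ← ((Nat.prime_two.coprime_iff_not_dvd.2 hodd).pow_left j).gcd_eq_one]
    exact pow_gcd_eq_one.2 ⟨hj, h1⟩
  rw [hx, h2, mul_one]

/-- **Odd automorphisms of a subgroup of a dihedral group fixing its central involution.** -/
theorem centralizes_of_dihedral {G : Type u} [Group G] [Finite G] {σ z t : G} {Q : Subgroup G}
    {k : ℕ} (hσ : orderOf σ = 2 ^ k)
    (hz : ∀ a ∈ Subgroup.zpowers σ, a * a = 1 → a = 1 ∨ a = z)
    (hsq : ∀ g ∈ Q, g ∉ Subgroup.zpowers σ → g * g = 1)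
    (hmul : ∀ g ∈ Q, ∀ g' ∈ Q, g ∉ Subgroup.zpowers σ → g' ∉ Subgroup.zpowers σ →
      g * g' ∈ Subgroup.zpowers σ)
    (htQ : ∀ g ∈ Q, t * g * t⁻¹ ∈ Q) (htz : t * z * t⁻¹ = z) (hodd : ¬ 2 ∣ orderOf t) :
    ∀ g ∈ Q, t * g * t⁻¹ = g := by
  have h2 : ∀ a ∈ Subgroup.zpowers σ, ∃ j : ℕ, a ^ 2 ^ j = 1 := fun a ha => by
    refine ⟨k, orderOf_dvd_iff_pow_eq_one.1 ?_⟩
    rw [← hσ]
    exact (Subgroup.orderOf_dvd_natCard _ ha).trans (Nat.card_zpowers σ).dvd
  have key : ∀ j : ℕ, ∀ a ∈ Q, a ∈ Subgroup.zpowers σ → a ^ 2 ^ j = 1 → t * a * t⁻¹ = a := by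
    intro j
    induction j with
    | zero => intro a _ _ ha; rw [pow_zero, pow_one] at ha; simp [ha]
    | succ j ih =>
      intro a haQ haA ha
      by_cases h1 : a * a = 1
      · rcases hz a haA h1 with rfl | rfl
        · simp
        · exact htz
      have hsq' : t * (a * a) * t⁻¹ = a * a :=
        ih _ (Q.mul_mem haQ haQ) (mul_mem haA haA) (by rw [← sq, ← pow_mul, ← pow_succ']; exact ha)
      have hsame : (t * a * t⁻¹) * (t * a * t⁻¹) = a * a := by
        rw [show (t * a * t⁻¹) * (t * a * t⁻¹) = t * (a * a) * t⁻¹ by group, hsq']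
      have hb : t * a * t⁻¹ ∈ Subgroup.zpowers σ := by
        by_contra hb
        exact h1 (hsame ▸ hsq _ (htQ a haQ) hb)
      have hcA : a⁻¹ * (t * a * t⁻¹) ∈ Subgroup.zpowers σ := mul_mem (inv_mem haA) hb
      have hcomm : a⁻¹ * (t * a * t⁻¹) = t * a * t⁻¹ * a⁻¹ := by
        obtain ⟨i, hi⟩ := Subgroup.mem_zpowers_iff.1 haA
        obtain ⟨l, hl⟩ := Subgroup.mem_zpowers_iff.1 hb
        rw [← hl, ← hi, ← zpow_neg, ← zpow_add, ← zpow_add, add_comm]
      have hcc : a⁻¹ * (t * a * t⁻¹) * (a⁻¹ * (t * a * t⁻¹)) = 1 := by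
        rw [hcomm]
        calc t * a * t⁻¹ * a⁻¹ * (t * a * t⁻¹ * a⁻¹)
            = t * a * t⁻¹ * (a⁻¹ * (t * a * t⁻¹)) * a⁻¹ := by group
          _ = t * a * t⁻¹ * (t * a * t⁻¹) * a⁻¹ * a⁻¹ := by rw [hcomm]; group
          _ = 1 := by rw [hsame]; group
      refine eq_self_of_odd (c := a⁻¹ * (t * a * t⁻¹)) (by group) ?_ hodd (h2 _ hcA)
      rcases hz _ hcA hcc with h | h <;> rw [h]
      · simp
      · exact htz
  have hA : ∀ a ∈ Q, a ∈ Subgroup.zpowers σ → t * a * t⁻¹ = a := fun a haQ haA => by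
    obtain ⟨j, hj⟩ := h2 a haA
    exact key j a haQ haA hj
  intro g hg
  by_cases hgA : g ∈ Subgroup.zpowers σ
  · exact hA g hg hgA
  have hb : t * g * t⁻¹ ∉ Subgroup.zpowers σ := fun hb => hgA (by
    have h1 := hA _ (htQ g hg) hb
    have h3 : t * g * t⁻¹ = g := mul_left_cancel (mul_right_cancel h1)
    rwa [h3] at hb)
  have hcA := hmul g hg _ (htQ g hg) hgA hb
  have hginv : g⁻¹ = g := inv_eq_of_mul_eq_one_right (hsq g hg hgA)
  refine eq_self_of_odd (c := g * (t * g * t⁻¹)) ?_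
    (hA _ (Q.mul_mem hg (htQ g hg)) hcA) hodd (h2 _ hcA)
  rw [← mul_assoc, hsq g hg hgA, one_mul]

section central

variable {M : Ideal AlgInt} [M.IsPrime] {p : ℕ} [Fact p.Prime] [CharP (Residue M) p]
  {G : Type u} [Group G] [Fintype G]

local notation "𝕜" => Residue M
local notation "Z[" x "]" => Subgroup.zpowers x
local notation "C[" Q "]" => Subgroup.centralizer (SetLike.coe Q)

variable {B : Set (IrrCharacter G)} {P : Subgroup G} {e : MonoidAlgebra (Residue M) G}

set_option maxHeartbeats 800000 in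
/-- **The maximal pair inside the centralizer of an element centralized by the defect group.** -/
theorem exists_local_maxPair (hM : IsPModular p M) (hB : IsPBlock M B)
    (hmax : IsMaxPair p (idem M B) (P, e)) {u : G} (hu : u ∈ P) (hPC : P ≤ C[Z[u]])
    [Fintype C[Z[u]]] {f : Set (IrrCharacter C[Z[u]])} (hf : IsPBlock M f)
    (hfe : idemIn M C[Z[u]] f = subBlk p P e u) :
    blockDefect p f = blockDefect p B ∧
    ∃ e' : MonoidAlgebra 𝕜 C[Z[u]], emb C[Z[u]] e' = e ∧
      IsMaxPair p (idem M f) (P.subgroupOf C[Z[u]], e') := by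
  have hb := isBlk_idem hM hB
  have hP : IsPair p (P, e) := hmax.1.1
  have hle := subBlk_ple hP hu
  have hCC : C[P] ≤ C[Z[u]] :=
    Subgroup.centralizer_le (SetLike.coe_subset_coe.mpr (Subgroup.zpowers_le.2 hu))
  have hfc : (blockSystem hP).IsFullyCentralized Z[u] := by
    refine ⟨Subgroup.zpowers_le.2 hu, fun R _ => Subgroup.card_le_of_le ?_⟩
    show P ⊓ C[R] ≤ P ⊓ C[Z[u]]
    rw [inf_eq_left.2 hPC]
    exact inf_le_left
  have hdm := (fullyCentralized_iff hP hb hmax hle).1 hfc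
  rw [inf_eq_left.2 hPC, ← hfe, ← isDefectGroup_sub_iff_of_le hM _ hf hPC] at hdm
  have hcard : Nat.card (P.subgroupOf C[Z[u]]) = Nat.card P :=
    Nat.card_congr (Subgroup.subgroupOfEquivOfLe hPC).toEquiv
  refine ⟨?_, ?_⟩
  · have h1 := card_defectGroup hM hf hdm
    rw [hcard, card_defectGroup hM hB (isDefectGroup_of_isDef hM hB (hmax.isDef hb))] at h1
    exact (Nat.pow_right_injective hM.1.two_le h1).symm
  have hD := isDef_of_isDefectGroup hM hf hdm
  have hmap : (P.subgroupOf C[Z[u]]).map (C[Z[u]]).subtype = P :=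
    Subgroup.map_subgroupOf_eq_of_le hPC
  let e' := restr C[Z[u]] e
  have hemb : emb C[Z[u]] e' = e := emb_restr _ (hP.suppIn.mono hCC)
  have hcen : Subgroup.centralizer
      (((P.subgroupOf C[Z[u]]).map (C[Z[u]]).subtype : Subgroup G) : Set G) ≤ C[Z[u]] := by
    rw [hmap]; exact hCC
  have hep : embPair C[Z[u]] (P.subgroupOf C[Z[u]], e') = (P, e) := Prod.ext hmap hemb
  have hP' : IsPair p (P.subgroupOf C[Z[u]], e') := by
    refine (isPair_embPair_iff (x := (P.subgroupOf C[Z[u]], e')) _ hcen).mp ?_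
    rw [hep]; exact hP
  refine ⟨e', hemb, (isMaxPair_iff_card (isBlk_idem hM hf) hD).2 ⟨⟨hP', ?_⟩, rfl⟩⟩
  show br (P.subgroupOf C[Z[u]]) (idem M f) * e' = e'
  apply emb_injective C[Z[u]]
  rw [map_mul, ← br_emb_eq, hmap, ← idemIn_eq, hemb, hfe]
  exact (PLE.nstep_of_le_normalizer hP hle
    (hPC.trans (centralizer_le_normalizer _))).2.2.2.2.2

end central

end CfsgLib.DihDefect
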