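import Cfsg.Agent.BlocksB.DihedralDefect.Vectors
import Cfsg.Agent.BlocksB.DihedralDefect.Contradiction
import Cfsg.Agent.BlocksB.GapOneElementary

/-!
# The invariants of a block with dihedral defect group
-/

set_option autoImplicit false
set_option linter.style.haveILetI false
set_option linter.unusedSectionVars false

namespace CfsgLib.DihDefect

open Cfsg Finset CfsgLib.Block CfsgLib.Block.Chr CfsgLib.BrauerPairs CfsgLib.BlockStar
  CfsgLib.BlockB
open scoped Classical

universe u

variable {M : Ideal AlgInt} {G : Type u} [Group G] [Finite G]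

/-- **The invariants of a block with dihedral defect group.** -/
theorem invariants (hM : IsPModular 2 M) {B : Set (IrrCharacter G)} (hB : IsPBlock M B)
    {D : Subgroup G} (hD : IsDefectGroup 2 M B D) {n : ℕ} (hn : 3 ≤ n)
    (e0 : D ≃* DihedralGroup (2 ^ (n - 1))) :
    Nat.card B = 2 ^ (n - 2) + 3 ∧ 1 ≤ blockRank 2 B ∧ blockRank 2 B ≤ 3 ∧
      Nat.card {χ : IrrCharacter G // χ ∈ B ∧ blockHeight 2 B (χ : G → ℂ) = 0} = 4 ∧
      ∀ χ ∈ B, blockHeight 2 B (χ : G → ℂ) ≤ 1 := by
  haveI : Fact (Nat.Prime 2) := ⟨Nat.prime_two⟩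
  haveI := hM.2.1.isPrime
  haveI := charP_residue hM
  haveI := Fintype.ofFinite G
  haveI : Fintype B := Fintype.ofFinite B
  obtain ⟨e, σ, τ, S⟩ := exists_data hM hB hD hn e0
  set h := 2 ^ (n - 2) with hh
  haveI : Fintype (Subgroup.centralizer (Subgroup.zpowers (σ ^ h) : Set G)) := Fintype.ofFinite _
  obtain ⟨f, e', χ₀, Φ, T⟩ := S.exists_locData
  let V : Vectors.Data B h :=
    { v := fun χ j => T.vec χ.1 j
      dz := fun χ => T.dz χ.1
      ht := fun χ => blockHeight 2 B ((χ : IrrCharacter G) : G → ℂ)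
      hh := S.hh
      gram := fun j hj k hk => T.gram hj hk
      dz_eq := fun χ => T.dz_eq_vec χ.1
      sum_sq := T.sum_dz_sq
      ne_zero := fun χ => (T.dz_props χ).1
      odd := fun χ => (T.dz_props χ).2.1
      four := fun χ => (T.dz_props χ).2.2
      exists_zero := by
        obtain ⟨χ, hχ, h0⟩ := exists_height_zero hM hB
        exact ⟨⟨χ, hχ⟩, h0⟩ }
  obtain ⟨h4, hht, hup, hlow⟩ := V.main
  have hlow' : h + 3 ≤ Fintype.card B := by
    refine hlow.resolve_right fun hex => ?_
    obtain ⟨hh4, hcard, hspec⟩ := hex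
    have h1 := T.rank_add_le
    have h2 := CfsgLib.Block.GapOneElementary.one_le_blockRank hM hB
    rw [Nat.card_eq_fintype_card, hcard, hh4] at h1
    exact T.contradiction hh4 (by rw [Nat.card_eq_fintype_card, hcard]; omega) (by omega) hspec
  have hk : Nat.card B = h + 3 := by rw [Nat.card_eq_fintype_card]; omega
  refine ⟨hk, CfsgLib.Block.GapOneElementary.one_le_blockRank hM hB, by have := T.rank_add_le; omega, ?_,
    fun χ hχ => hht ⟨χ, hχ⟩⟩
  rw [← h4, Nat.card_congr (Equiv.subtypeSubtypeEquivSubtypeInter _ _).symm,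
    Nat.card_eq_fintype_card, Fintype.card_subtype]
  rfl

end CfsgLib.DihDefect
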