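import Cfsg.Agent.BlocksB.DihedralDefect.Values
import Cfsg.Agent.BlocksB.DihedralDefect.Pairs

/-!
# A block with dihedral defect group: the relations between the values on the rotations
-/

set_option autoImplicit false
set_option linter.style.haveILetI false
set_option linter.unusedSectionVars false

namespace CfsgLib.DihDefect

open Cfsg Finset CfsgLib.Block CfsgLib.Block.Chr CfsgLib.BrauerPairs CfsgLib.BlockStar
  CfsgLib.BlockB
open scoped ComplexConjugate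
open scoped Classical

universe u

variable {M : Ideal AlgInt} [M.IsPrime] [Fact (Nat.Prime 2)] [CharP (Residue M) 2]
  {G : Type u} [Group G] [Fintype G]

local notation "𝕜" => Residue M
local notation "Z[" x "]" => Subgroup.zpowers x
local notation "C[" Q "]" => Subgroup.centralizer (SetLike.coe Q)

namespace LocData

variable {B : Set (IrrCharacter G)} {D : Subgroup G} {e : MonoidAlgebra (Residue M) G}
  {σ τ : G} {h : ℕ} {S : DihData (M := M) B D e σ τ h} [Fintype C[Z[σ ^ h]]]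
  {f : Set (IrrCharacter C[Z[σ ^ h]])} {e' : MonoidAlgebra (Residue M) C[Z[σ ^ h]]}
  {χ₀ : IrrCharacter C[Z[σ ^ h]]} {Φ : IrrCharacter (D.subgroupOf C[Z[σ ^ h]]) ≃ f}
  (T : LocData S f e' χ₀ Φ)
include T

/-- The orbit of the pair of a rotation. -/
noncomputable def rotOrb (_T : LocData S f e' χ₀ Φ) (i : ℕ) :
    Finset ((_ : G) × MonoidAlgebra 𝕜 G) :=
  orb (σ ^ i) (subBlk 2 D e (σ ^ i))

theorem rot_ne_one {i : ℕ} (hi : i ∈ Icc 1 h) : σ ^ i ≠ 1 := by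
  obtain ⟨h1, h2⟩ := mem_Icc.1 hi
  exact S.pow_ne_one h1 (by have := S.h_pos; omega)

theorem rot_blk (i : ℕ) : IsBlk 𝕜 C[Z[σ ^ i]] (subBlk 2 D e (σ ^ i)) :=
  (PLE.isPair (subBlk_ple S.pair (S.pow_mem_D i)) S.pair).2

theorem rot_pSet (i : ℕ) : σ ^ i ∈ pSet 2 G := mem_pSet_of_mem S.pair (S.pow_mem_D i)

/-- The order of the centralizer in the defect group. -/
theorem card_rot {i : ℕ} (hi : i ∈ Icc 1 h) :
    Nat.card (D ⊓ C[Z[σ ^ i]] : Subgroup G) = if i = h then 4 * h else 2 * h := by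
  rw [S.card_centralizer_rot (Subgroup.pow_mem _ (Subgroup.mem_zpowers σ) i)]
  refine if_congr ?_ rfl rfl
  rw [← pow_add, S.pow_eq_one]
  obtain ⟨h1, h2⟩ := mem_Icc.1 hi
  constructor
  · intro hd
    have := Nat.le_of_dvd (by omega) hd
    omega
  · rintro rfl; rw [two_mul]

/-- **Different rotations give different subsections.** -/
theorem rot_not_conj {i j : ℕ} (hi : i ∈ Icc 1 h) (hj : j ∈ Icc 1 h) {g : G}
    (hg : g * σ ^ i * g⁻¹ = σ ^ j) (hgf : cj 𝕜 g (subBlk 2 D e (σ ^ i)) = subBlk 2 D e (σ ^ j)) :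
    i = j := by
  have hiA := Subgroup.pow_mem _ (Subgroup.mem_zpowers σ) i
  have hjA := Subgroup.pow_mem _ (Subgroup.mem_zpowers σ) j
  obtain ⟨k, hk⟩ := Subgroup.mem_zpowers_iff.1 (S.exists_pow_z hiA (T.rot_ne_one hi))
  have hgz : g * σ ^ h * g⁻¹ = σ ^ h := by
    have h1 : g * σ ^ h * g⁻¹ ∈ Z[σ] := by
      rw [← hk, ← conj_zpow, hg]; exact Subgroup.zpow_mem _ hjA k
    have h2 : g * σ ^ h * g⁻¹ * (g * σ ^ h * g⁻¹) = 1 := by
      rw [show g * σ ^ h * g⁻¹ * (g * σ ^ h * g⁻¹) = g * (σ ^ h * σ ^ h) * g⁻¹ by group,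
        S.z_sq, mul_one, mul_inv_cancel]
    exact (S.eq_z h1 h2).resolve_left fun e1 => S.z_ne_one (conj_eq_one_iff.1 e1)
  have hgL : g ∈ C[Z[σ ^ h]] := mem_cz.2 (mul_inv_eq_iff_eq_mul.1 hgz)
  set g' : C[Z[σ ^ h]] := ⟨g, hgL⟩
  have hu : g' * (S.rot i : C[Z[σ ^ h]]) * g'⁻¹ = (S.rot j : C[Z[σ ^ h]]) := Subtype.ext hg
  have hC : Carries 2 (D.subgroupOf C[Z[σ ^ h]], e') Z[(S.rot i : C[Z[σ ^ h]])] g' := by
    refine ⟨subBlk 2 (D.subgroupOf C[Z[σ ^ h]]) e' (S.rot i : C[Z[σ ^ h]]),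
      subBlk_ple T.hP' (S.rot i).2, ?_⟩
    rw [cjPair_zpowers, hu]
    have he : cj 𝕜 g' (subBlk 2 (D.subgroupOf C[Z[σ ^ h]]) e' (S.rot i : C[Z[σ ^ h]])) =
        subBlk 2 (D.subgroupOf C[Z[σ ^ h]]) e' (S.rot j : C[Z[σ ^ h]]) := by
      refine emb_injective C[Z[σ ^ h]] ?_
      rw [← cj_emb, T.emb_sub (S.centralizer_le_z hiA (T.rot_ne_one hi)),
        T.emb_sub (S.centralizer_le_z hjA (T.rot_ne_one hj))]
      exact hgf
    rw [he]
    exact subBlk_ple T.hP' (S.rot j).2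
  obtain ⟨w, hw, hww⟩ := exists_conj_mem S.hM T.hf T.hnil T.hmax' _ (S.rot i).2 g' hC
  rw [hu] at hww
  have h3 : σ ^ j = (w : G) * σ ^ i * (w : G)⁻¹ := congrArg Subtype.val hww
  obtain ⟨h1, h2⟩ := mem_Icc.1 hi
  obtain ⟨h4, h5⟩ := mem_Icc.1 hj
  have := S.h_pos
  rcases S.conj_rot (Subgroup.mem_subgroupOf.1 hw) hiA with e1 | e1
  · rw [e1] at h3
    exact (pow_injOn_Iio_orderOf (show j ∈ Set.Iio (orderOf σ) by rw [S.ordσ]; simp; omega)
      (show i ∈ Set.Iio (orderOf σ) by rw [S.ordσ]; simp; omega) h3).symm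
  · rw [e1, eq_inv_iff_mul_eq_one, ← pow_add, S.pow_eq_one] at h3
    have := Nat.le_of_dvd (by omega) h3
    omega

theorem rotOrb_disjoint : (Icc 1 h : Set ℕ).PairwiseDisjoint T.rotOrb := by
  intro i hi j hj hne
  rw [Function.onFun, disjoint_left]
  rintro ⟨x, d⟩ h1 h2
  obtain ⟨g, hg, hgf⟩ := orb_eq_of_inter h1 h2
  exact hne (T.rot_not_conj (by simpa using hi) (by simpa using hj) hg hgf)

theorem rotOrb_ne_one {i : ℕ} (hi : i ∈ Icc 1 h) {t : (_ : G) × MonoidAlgebra 𝕜 G}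
    (ht : t ∈ T.rotOrb i) : t.1 ≠ 1 := by
  obtain ⟨x, d⟩ := t
  obtain ⟨g, hx, -⟩ := mem_orb.1 ht
  intro e1
  exact T.rot_ne_one hi (conj_eq_one_iff.1 (hx.trans e1))

/-- The remaining pairs. -/
noncomputable def others (T : LocData S f e' χ₀ Φ) : Finset ((_ : G) × MonoidAlgebra 𝕜 G) :=
  (pairSet 2 M G).filter fun t => t.1 ≠ 1 ∧ t ∉ (Icc 1 h).biUnion T.rotOrb

variable [Fintype B]

theorem qf_rot (co : B → ℂ) {i : ℕ} (hi : i ∈ Icc 1 h) :
    qf 2 co (σ ^ i) (subBlk 2 D e (σ ^ i)) =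
      ((if i = h then 4 * h else 2 * h : ℕ) : ℝ)⁻¹ * ‖∑ χ : B, co χ * (T.th χ.1 i : ℂ)‖ ^ 2 := by
  apply Complex.ofReal_injective
  rw [qf_eq, Complex.ofReal_mul, Complex.ofReal_pow, Complex.ofReal_inv, Complex.ofReal_natCast,
    ← Complex.mul_conj', map_sum, sum_mul_sum, mul_sum]
  refine sum_congr rfl fun χ _ => ?_
  rw [mul_sum]
  refine sum_congr rfl fun ψ _ => ?_
  rw [T.contrib_rot χ.1 ψ.1 (T.rot_ne_one hi), T.card_rot hi, map_mul, Complex.conj_ofReal]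
  ring

/-- **The norm along the subsections.** -/
theorem norm_split (co : B → ℂ) :
    ∑ χ : B, ‖co χ‖ ^ 2 = ∑ d ∈ blks M (1 : G), qf 2 co 1 d +
      ∑ i ∈ Icc 1 h,
        ((if i = h then 4 * h else 2 * h : ℕ) : ℝ)⁻¹ * ‖∑ χ : B, co χ * (T.th χ.1 i : ℂ)‖ ^ 2 +
      ∑ t ∈ T.others, qw 2 co t := by
  have hM := S.hM
  rw [norm_eq_sum_qw hM co, ← sum_filter_add_sum_filter_not (pairSet 2 M G) (fun t => t.1 = 1),
    add_assoc]
  congr 1
  · have h1m : (1 : G) ∈ pSet 2 G := mem_pSet.2 ⟨0, by simp⟩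
    have hC : Nat.card C[Z[(1 : G)]] = Nat.card G := by
      rw [Subgroup.zpowers_one_eq_bot, centralizer_bot, Subgroup.card_top]
    refine sum_bij' (fun t _ => t.2) (fun d _ => ⟨1, d⟩) ?_ ?_ ?_ ?_ ?_
    · rintro ⟨x, d⟩ ht
      obtain ⟨h1, h2⟩ := mem_filter.1 ht
      have h3 : x = 1 := h2
      subst h3
      exact (mem_sigma.1 h1).2
    · intro d hd
      exact mem_filter.2 ⟨mem_sigma.2 ⟨h1m, hd⟩, rfl⟩
    · rintro ⟨x, d⟩ ht
      have h3 : x = 1 := (mem_filter.1 ht).2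
      subst h3
      rfl
    · intro d _; rfl
    · rintro ⟨x, d⟩ ht
      have h3 : x = 1 := (mem_filter.1 ht).2
      subst h3
      simp only [qw, hC, inv_mul_cancel₀ (Nat.cast_ne_zero.2 Nat.card_pos.ne' :
        (Nat.card G : ℝ) ≠ 0), one_mul]
  · have hsub : (Icc 1 h).biUnion T.rotOrb ⊆ (pairSet 2 M G).filter fun t => ¬ t.1 = 1 :=
      fun t ht => by
        obtain ⟨i, hi, hti⟩ := mem_biUnion.1 ht
        exact mem_filter.2 ⟨orb_subset (T.rot_pSet i) (T.rot_blk i) hti, T.rotOrb_ne_one hi hti⟩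
    rw [← sum_sdiff hsub, add_comm, sum_biUnion T.rotOrb_disjoint]
    congr 1
    · refine sum_congr rfl fun i hi => ?_
      rw [rotOrb, sum_qw_orb hM co (T.rot_pSet i) (T.rot_blk i), T.qf_rot co hi]
    · refine sum_congr ?_ fun _ _ => rfl
      ext t
      simp only [others, mem_sdiff, mem_filter]
      tauto

theorem others_nonneg (co : B → ℂ) : 0 ≤ ∑ t ∈ T.others, qw 2 co t :=
  sum_nonneg fun _ _ => qw_nonneg _ _

/-- **The squares of the values at a rotation add up to the centralizer in the defect group.** -/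
theorem sum_sq {i : ℕ} (hi : i ∈ Icc 1 h) :
    ∑ χ : B, T.th χ.1 i ^ 2 = ((if i = h then 4 * h else 2 * h : ℕ) : ℝ) := by
  letI := irrFintype (G := G)
  have hM := S.hM
  obtain ⟨d, hd, hde⟩ := exists_idemIn_eq hM (T.rot_blk i)
  have hpair : IsPairOf 2 (idem M B) (Z[σ ^ i], idemIn M C[Z[σ ^ i]] d) := by
    rw [hde]
    exact (isPairOf_iff_of_ple (isBlk_idem hM S.hB) (subBlk_ple S.pair (S.pow_mem_D i)) S.pair).2
      S.hmax.1
  have hind := isInducedBlock_of_isBrauerPairOf hM (zpowers_le_centralizer_zpowers _)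
    ((isBrauerPairOf_iff hM).2 ⟨⟨hpair.1.1, hd⟩, S.hB, hpair⟩)
  obtain ⟨N, hN⟩ := mem_pSet.1 (T.rot_pSet i)
  obtain ⟨k, -, hk⟩ := (Nat.dvd_prime_pow hM.1).1 (orderOf_dvd_of_pow_eq_one hN)
  set c : ℕ := if i = h then 4 * h else 2 * h with hc0
  have hc : ∀ χ ψ : IrrCharacter G, CfsgLib.BlockB.contrib 2 d (σ ^ i) χ ψ =
      (T.th χ i : ℂ) * (T.th ψ i : ℂ) * (c : ℂ)⁻¹ := fun χ ψ => by
    have h1 := contribR_idemIn hM χ ψ (T.rot_pSet i) hd
    rw [hde, T.contrib_rot χ ψ (T.rot_ne_one hi), T.card_rot hi] at h1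
    exact h1.symm
  obtain ⟨χ, hχ, h0⟩ := exists_height_zero hM S.hB
  have hne := contribR_ne_zero hM S.hB hχ h0 S.hmax (S.pow_mem_D i)
  rw [T.contrib_rot χ χ (T.rot_ne_one hi), T.card_rot hi] at hne
  have h1 := contrib_mul hM (centralizer_zpowers_eq _) hk hind χ χ
  simp only [hc] at h1
  rw [sum_subtype (univ.filter (· ∈ B)) (p := (· ∈ B)) (by simp)
    (fun ψ : IrrCharacter G => (T.th χ i : ℂ) * (T.th ψ i : ℂ) * (c : ℂ)⁻¹ *
      ((T.th ψ i : ℂ) * (T.th χ i : ℂ) * (c : ℂ)⁻¹))] at h1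
  have h2 : ((T.th χ i : ℂ) * (T.th χ i : ℂ) * (c : ℂ)⁻¹) *
      ((∑ φ : B, (T.th φ.1 i : ℂ) ^ 2) * (c : ℂ)⁻¹) =
      ((T.th χ i : ℂ) * (T.th χ i : ℂ) * (c : ℂ)⁻¹) * 1 := by
    rw [mul_one]
    refine Eq.trans ?_ h1
    rw [sum_mul, mul_sum]
    exact sum_congr rfl fun φ _ => by ring
  have h3 := mul_left_cancel₀ hne h2
  rw [mul_inv_eq_one₀ (Nat.cast_ne_zero.2 (by rw [hc0]; have := S.h_pos; split_ifs <;> omega))]
    at h3
  exact_mod_cast h3

theorem orth_aux {j : ℕ} (hj : j ∈ Icc 1 h) :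
    ∑ d ∈ blks M (1 : G), qf 2 (fun χ : B => (T.th χ.1 j : ℂ)) 1 d = 0 ∧
      ∀ i ∈ Icc 1 h, i ≠ j → ‖∑ χ : B, (T.th χ.1 j : ℂ) * (T.th χ.1 i : ℂ)‖ = 0 := by
  set co : B → ℂ := fun χ => (T.th χ.1 j : ℂ)
  set c : ℕ → ℝ := fun i => ((if i = h then 4 * h else 2 * h : ℕ) : ℝ) with hc
  have hcpos : ∀ i, 0 < c i := fun i => by
    simp only [hc]
    have := S.h_pos
    exact Nat.cast_pos.2 (by split_ifs <;> omega)
  have h1 := T.norm_split co
  have hn : ∑ χ : B, ‖co χ‖ ^ 2 = c j := by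
    simp only [hc]
    rw [← T.sum_sq hj]
    exact sum_congr rfl fun χ _ => by
      simp only [co, Complex.norm_real, Real.norm_eq_abs, sq_abs]
  have hjterm : (c j)⁻¹ * ‖∑ χ : B, co χ * (T.th χ.1 j : ℂ)‖ ^ 2 = c j := by
    have h2 : ∑ χ : B, co χ * (T.th χ.1 j : ℂ) = ((c j : ℝ) : ℂ) := by
      simp only [hc]
      rw [← T.sum_sq hj, Complex.ofReal_sum]
      exact sum_congr rfl fun χ _ => by simp only [co]; push_cast; ring
    rw [h2, Complex.norm_real, Real.norm_eq_abs, sq_abs]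
    field_simp
  rw [hn] at h1
  change c j = _ + ∑ i ∈ Icc 1 h, (c i)⁻¹ * ‖∑ χ : B, co χ * (T.th χ.1 i : ℂ)‖ ^ 2 + _ at h1
  rw [← add_sum_erase _ _ hj, hjterm] at h1
  have ha : 0 ≤ ∑ d ∈ blks M (1 : G), qf 2 co 1 d := sum_nonneg fun _ _ => qf_nonneg _ _ _
  have hpos : ∀ i ∈ (Icc 1 h).erase j,
      0 ≤ (c i)⁻¹ * ‖∑ χ : B, co χ * (T.th χ.1 i : ℂ)‖ ^ 2 :=
    fun i _ => mul_nonneg (inv_nonneg.2 (hcpos i).le) (sq_nonneg _)
  have hb := sum_nonneg hpos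
  have hr := T.others_nonneg co
  refine ⟨by linarith, fun i hi hne => ?_⟩
  have h3 : ∑ i ∈ (Icc 1 h).erase j,
      (c i)⁻¹ * ‖∑ χ : B, co χ * (T.th χ.1 i : ℂ)‖ ^ 2 = 0 := by linarith
  have h4 := (sum_eq_zero_iff_of_nonneg hpos).1 h3 i (mem_erase.2 ⟨hne, hi⟩)
  exact (pow_eq_zero_iff two_ne_zero).1
    ((mul_eq_zero.1 h4).resolve_left (inv_ne_zero (hcpos i).ne'))

/-- **Different rotations have orthogonal values.** -/
theorem sum_mul {i j : ℕ} (hi : i ∈ Icc 1 h) (hj : j ∈ Icc 1 h) (hne : i ≠ j) :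
    ∑ χ : B, T.th χ.1 i * T.th χ.1 j = 0 := by
  have h1 := norm_eq_zero.1 ((T.orth_aux hj).2 i hi hne)
  apply Complex.ofReal_injective
  rw [Complex.ofReal_zero, ← h1, Complex.ofReal_sum]
  exact sum_congr rfl fun χ _ => by push_cast; ring

/-- **The values are orthogonal to the degrees.** -/
theorem sum_deg {j : ℕ} (hj : j ∈ Icc 1 h) :
    ∑ χ : B, T.th χ.1 j * (charDegree ((χ : IrrCharacter G) : G → ℂ) : ℝ) = 0 := by
  have hM := S.hM
  have h1 := (sum_eq_zero_iff_of_nonneg fun d _ => qf_nonneg (M := M) (p := 2)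
    (fun χ : B => (T.th χ.1 j : ℂ)) (1 : G) d).1 (T.orth_aux hj).1
  have hs : PElt 2 (1 : G) 1 := ⟨⟨0, by simp⟩, by rw [orderOf_one]; exact hM.1.not_dvd_one,
    Commute.one_left _⟩
  apply Complex.ofReal_injective
  rw [Complex.ofReal_zero, Complex.ofReal_sum]
  simp only [Complex.ofReal_mul, Complex.ofReal_natCast]
  calc ∑ χ : B, (T.th χ.1 j : ℂ) * (charDegree ((χ : IrrCharacter G) : G → ℂ) : ℂ)
      = ∑ χ : B, (T.th χ.1 j : ℂ) * ∑ d ∈ blks M (1 : G), val χ.1 1 1 d := by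
        refine sum_congr rfl fun χ _ => congrArg _ ?_
        have h2 := wsum_const_one (M := M) hM χ.1 hs
        rw [one_mul, (irr_one χ.1).1, wsum] at h2
        rw [← h2]
        exact sum_congr rfl fun d _ => by rw [br_one, one_mul, one_mul]
    _ = 0 := by
        simp only [mul_sum]
        rw [sum_comm]
        exact sum_eq_zero fun d hd => sum_eq_zero_of_qf (h1 d hd) (Subgroup.one_mem _)
          (by rw [orderOf_one]; exact hM.1.not_dvd_one)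

/-- The remaining trace. -/
noncomputable def restTrace (T : LocData S f e' χ₀ Φ) : ℝ :=
  ∑ χ : B, ∑ t ∈ T.others, qw 2 (fun ψ : B => if ψ = χ then 1 else 0) t

/-- **Counting by the subsections.** -/
theorem card_eq : (Nat.card B : ℝ) = (blockRank 2 B : ℝ) + (h : ℝ) + T.restTrace := by
  have hM := S.hM
  have h1 : ∑ χ : B, ∑ ψ : B, ‖(if ψ = χ then 1 else 0 : ℂ)‖ ^ 2 = (Nat.card B : ℝ) := by
    rw [Nat.card_eq_fintype_card, ← card_univ, card_eq_sum_ones, Nat.cast_sum, Nat.cast_one]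
    refine sum_congr rfl fun χ _ => ?_
    rw [sum_eq_single_of_mem χ (mem_univ _) fun ψ _ hne => by simp [hne]]
    simp
  rw [← h1, sum_congr rfl fun χ _ => T.norm_split fun ψ : B => if ψ = χ then (1 : ℂ) else 0,
    sum_add_distrib, sum_add_distrib]
  congr 1
  congr 1
  · apply Complex.ofReal_injective
    rw [Complex.ofReal_natCast, blockRank_eq_trace hM S.hB, Complex.ofReal_sum]
    exact sum_congr rfl fun χ _ => sum_qf_single_one hM χ
  · rw [sum_comm]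
    calc ∑ i ∈ Icc 1 h, ∑ χ : B, ((if i = h then 4 * h else 2 * h : ℕ) : ℝ)⁻¹ *
          ‖∑ ψ : B, (if ψ = χ then (1 : ℂ) else 0) * (T.th ψ.1 i : ℂ)‖ ^ 2
        = ∑ i ∈ Icc 1 h, (1 : ℝ) := by
          refine sum_congr rfl fun i hi => ?_
          rw [← mul_sum]
          rw [show ∑ χ : B, ‖∑ ψ : B, (if ψ = χ then (1 : ℂ) else 0) * (T.th ψ.1 i : ℂ)‖ ^ 2 =
            ∑ χ : B, T.th χ.1 i ^ 2 from sum_congr rfl fun χ _ => by simp]
          rw [T.sum_sq hi, inv_mul_cancel₀]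
          have := S.h_pos
          exact Nat.cast_ne_zero.2 (by split_ifs <;> omega)
      _ = (h : ℝ) := by rw [sum_const, Nat.card_Icc, nsmul_eq_mul, mul_one]; simp

theorem restTrace_nonneg : 0 ≤ T.restTrace := sum_nonneg fun _ _ => T.others_nonneg _

theorem rank_add_le : blockRank 2 B + h ≤ Nat.card B := by
  have h1 := T.card_eq
  have h2 := T.restTrace_nonneg
  have h3 : ((blockRank 2 B + h : ℕ) : ℝ) ≤ (Nat.card B : ℝ) := by push_cast; linarith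
  exact_mod_cast h3

/-- Without further subsections the other values vanish. -/
theorem val_others (hle : Nat.card B ≤ blockRank 2 B + h) (χ : B)
    {t : (_ : G) × MonoidAlgebra 𝕜 G} (ht : t ∈ T.others) : val χ.1 t.1 1 t.2 = 0 := by
  have h1 := T.card_eq
  have h2 := T.restTrace_nonneg
  have h3 : (Nat.card B : ℝ) ≤ ((blockRank 2 B + h : ℕ) : ℝ) := by exact_mod_cast hle
  push_cast at h3
  have h4 : T.restTrace = 0 := by linarith
  have h5 := (sum_eq_zero_iff_of_nonneg fun χ _ => T.others_nonneg _).1 h4 χ (mem_univ _)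
  have h6 := (sum_eq_zero_iff_of_nonneg fun _ _ => qw_nonneg _ _).1 h5 t ht
  have h7 : qf 2 (fun ψ : B => if ψ = χ then (1 : ℂ) else 0) t.1 t.2 = 0 :=
    (mul_eq_zero.1 h6).resolve_left (mul_ne_zero (inv_ne_zero (Nat.cast_ne_zero.2 Nat.card_pos.ne'))
      (Nat.cast_ne_zero.2 Nat.card_pos.ne'))
  simpa using sum_eq_zero_of_qf h7 (Subgroup.one_mem _)
    (by rw [orderOf_one]; exact S.hM.1.not_dvd_one)

end LocData

end CfsgLib.DihDefect
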