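import Cfsg.Agent.BlocksB.DihedralDefect.Local
import Cfsg.Agent.Invol.DihedralFour

/-!
# A block with dihedral defect group: the data
-/

set_option autoImplicit false
set_option linter.style.haveILetI false
set_option linter.unusedSectionVars false

namespace CfsgLib.DihDefect

open Cfsg Finset CfsgLib.Block CfsgLib.Block.Chr CfsgLib.BrauerPairs CfsgLib.BlockStar
open scoped Classical

universe u

variable {M : Ideal AlgInt} [M.IsPrime] [Fact (Nat.Prime 2)] [CharP (Residue M) 2]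
  {G : Type u} [Group G] [Fintype G]

local notation "𝕜" => Residue M
local notation "Z[" x "]" => Subgroup.zpowers x
local notation "C[" Q "]" => Subgroup.centralizer (SetLike.coe Q)

/-- The data of a maximal pair of a block with dihedral defect group of order `4 * h`. -/
structure DihData (B : Set (IrrCharacter G)) (D : Subgroup G) (e : MonoidAlgebra (Residue M) G)
    (σ τ : G) (h : ℕ) : Prop where
  hM : IsPModular 2 M
  hB : IsPBlock M B
  hmax : IsMaxPair 2 (idem M B) (D, e)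
  hh : ∃ k : ℕ, h = 2 ^ (k + 1)
  ordσ : orderOf σ = 2 * h
  ordτ : orderOf τ = 2
  rel : τ * σ * τ⁻¹ = σ⁻¹
  σ_mem : σ ∈ D
  τ_mem : τ ∈ D
  cases : ∀ g ∈ D, ∃ i : ℤ, g = σ ^ i ∨ g = σ ^ i * τ
  card : Nat.card D = 4 * h
  τ_not : τ ∉ Subgroup.zpowers σ
  defect : 2 ^ blockDefect 2 B = 4 * h

/-- The data exist. -/
theorem exists_data (hM : IsPModular 2 M) {B : Set (IrrCharacter G)} (hB : IsPBlock M B)
    {D : Subgroup G} (hD : IsDefectGroup 2 M B D) {n : ℕ} (hn : 3 ≤ n)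
    (e0 : D ≃* DihedralGroup (2 ^ (n - 1))) :
    ∃ (e : MonoidAlgebra 𝕜 G) (σ τ : G), DihData (M := M) B D e σ τ (2 ^ (n - 2)) := by
  have hDef := isDef_of_isDefectGroup hM hB hD
  obtain ⟨e, he⟩ := exists_isMaxPair (isBlk_idem hM hB) hDef
  obtain ⟨R⟩ := CfsgLib.DihFour.exists_data hDef.1
    (show 2 ≤ 2 ^ (n - 1) from le_trans (le_of_eq (pow_one 2).symm)
      (Nat.pow_le_pow_right two_pos (by omega))) e0
  have hh : R.h = 2 ^ (n - 2) := by
    have h1 := R.card_eq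
    rw [Nat.card_congr e0.toEquiv, DihedralGroup.nat_card,
      show n - 1 = n - 2 + 1 by omega, pow_succ] at h1
    omega
  exact ⟨e, R.r, R.s, hM, hB, he, ⟨n - 3, by rw [show n - 3 + 1 = n - 2 by omega]⟩,
    hh ▸ R.hr, R.hs, R.hsr, R.rS, R.sS, R.cases, hh ▸ R.card_eq, R.s_not,
    (card_defectGroup hM hB hD).symm.trans (hh ▸ R.card_eq)⟩

namespace DihData

variable {B : Set (IrrCharacter G)} {D : Subgroup G} {e : MonoidAlgebra (Residue M) G}
  {σ τ : G} {h : ℕ} (S : DihData (M := M) B D e σ τ h)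
include S

theorem h_pos : 0 < h := by
  obtain ⟨k, rfl⟩ := S.hh; exact Nat.two_pow_pos _

theorem h_even : 2 ∣ h := by
  obtain ⟨k, rfl⟩ := S.hh; exact dvd_pow_self 2 (by omega)

theorem pair : IsPair 2 (D, e) := S.hmax.1.1

/-- The rotations. -/
theorem rot_mem {a : G} (ha : a ∈ Z[σ]) : a ∈ D := (Subgroup.zpowers_le.2 S.σ_mem) ha

theorem pow_mem_D (i : ℕ) : σ ^ i ∈ D := D.pow_mem S.σ_mem i

theorem zpow_eq_one {i : ℤ} : σ ^ i = 1 ↔ 2 * (h : ℤ) ∣ i := by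
  rw [← orderOf_dvd_iff_zpow_eq_one, S.ordσ]; push_cast; rfl

theorem pow_eq_one {i : ℕ} : σ ^ i = 1 ↔ 2 * h ∣ i := by
  rw [← orderOf_dvd_iff_pow_eq_one, S.ordσ]

theorem pow_ne_one {i : ℕ} (h1 : 1 ≤ i) (h2 : i < 2 * h) : σ ^ i ≠ 1 := fun he => by
  have := Nat.le_of_dvd (by omega) (S.pow_eq_one.1 he); omega

theorem z_ne_one : σ ^ h ≠ 1 := S.pow_ne_one S.h_pos (by have := S.h_pos; omega)

theorem z_sq : σ ^ h * σ ^ h = 1 := by rw [← pow_add, ← two_mul, S.pow_eq_one]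

theorem orderOf_z : orderOf (σ ^ h) = 2 :=
  CfsgLib.Invol.orderOf_eq_two S.z_sq S.z_ne_one

theorem eq_z {a : G} (ha : a ∈ Z[σ]) (h2 : a * a = 1) : a = 1 ∨ a = σ ^ h := by
  obtain ⟨i, rfl⟩ := Subgroup.mem_zpowers_iff.1 ha
  rw [← zpow_add, S.zpow_eq_one] at h2
  obtain ⟨c, hc⟩ := h2
  rcases Int.even_or_odd c with ⟨j, rfl⟩ | ⟨j, rfl⟩
  · exact Or.inl (S.zpow_eq_one.2 ⟨j, by linarith⟩)
  · right
    rw [show i = (h : ℤ) + 2 * (h : ℤ) * j by linarith, zpow_add,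
      S.zpow_eq_one.2 ⟨j, rfl⟩, mul_one, zpow_natCast]

/-- Rotations of order two or more have `z` as a power. -/
theorem exists_pow_z {a : G} (ha : a ∈ Z[σ]) (ha1 : a ≠ 1) : σ ^ h ∈ Z[a] := by
  obtain ⟨k, hk⟩ := S.hh
  have hd : orderOf a ∣ 2 ^ (k + 2) := by
    rw [show 2 ^ (k + 2) = orderOf σ by rw [S.ordσ, hk]; ring]
    exact (Subgroup.orderOf_dvd_natCard _ ha).trans (Nat.card_zpowers σ).dvd
  obtain ⟨j, -, hj⟩ := (Nat.dvd_prime_pow Nat.prime_two).1 hd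
  have hj0 : j ≠ 0 := fun h0 => ha1 (orderOf_eq_one_iff.1 (by rw [hj, h0, pow_zero]))
  obtain ⟨i, rfl⟩ : ∃ i, j = i + 1 := ⟨j - 1, by omega⟩
  have h1 : a ^ 2 ^ i * a ^ 2 ^ i = 1 := by
    rw [← pow_add, ← two_mul, ← pow_succ', ← hj, pow_orderOf_eq_one]
  rcases S.eq_z (Subgroup.pow_mem _ ha _) h1 with h2 | h2
  · have h3 := Nat.le_of_dvd (Nat.two_pow_pos i) (orderOf_dvd_of_pow_eq_one h2)
    rw [hj, pow_succ] at h3
    have := Nat.two_pow_pos i
    omega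
  · exact h2 ▸ Subgroup.pow_mem _ (Subgroup.mem_zpowers a) _

theorem centralizer_le_z {a : G} (ha : a ∈ Z[σ]) (ha1 : a ≠ 1) :
    (C[Z[a]] : Subgroup G) ≤ C[Z[σ ^ h]] :=
  Subgroup.centralizer_le (SetLike.coe_subset_coe.mpr
    (Subgroup.zpowers_le.2 (S.exists_pow_z ha ha1)))

theorem τ_rot (i : ℤ) : τ * σ ^ i * τ⁻¹ = σ ^ (-i) := by
  rw [← conj_zpow, S.rel, inv_zpow']

theorem τ_mul_rot (i : ℤ) : τ * σ ^ i = σ ^ (-i) * τ := mul_inv_eq_iff_eq_mul.1 (S.τ_rot i)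

theorem τ_sq : τ * τ = 1 := CfsgLib.Invol.mul_self_eq_one S.ordτ

theorem refl_mul (i j : ℤ) : σ ^ i * τ * (σ ^ j * τ) = σ ^ (i - j) := by
  rw [mul_assoc, ← mul_assoc τ, S.τ_mul_rot, mul_assoc _ τ, S.τ_sq, mul_one, ← zpow_add,
    ← sub_eq_add_neg]

theorem refl_not (i : ℤ) : σ ^ i * τ ∉ Z[σ] := fun hm =>
  S.τ_not ((Subgroup.mul_mem_cancel_left _ (Subgroup.zpow_mem _ (Subgroup.mem_zpowers σ) i)).1 hm)

theorem exists_refl {g : G} (hg : g ∈ D) (hn : g ∉ Z[σ]) : ∃ i : ℤ, g = σ ^ i * τ := by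
  obtain ⟨i, rfl | rfl⟩ := S.cases g hg
  · exact absurd (Subgroup.zpow_mem _ (Subgroup.mem_zpowers σ) i) hn
  · exact ⟨i, rfl⟩

theorem refl_sq {g : G} (hg : g ∈ D) (hn : g ∉ Z[σ]) : g * g = 1 := by
  obtain ⟨i, rfl⟩ := S.exists_refl hg hn
  rw [S.refl_mul, sub_self, zpow_zero]

theorem refl_mul_mem {g g' : G} (hg : g ∈ D) (hg' : g' ∈ D) (hn : g ∉ Z[σ]) (hn' : g' ∉ Z[σ]) :
    g * g' ∈ Z[σ] := by
  obtain ⟨i, rfl⟩ := S.exists_refl hg hn
  obtain ⟨j, rfl⟩ := S.exists_refl hg' hn'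
  rw [S.refl_mul]
  exact Subgroup.zpow_mem _ (Subgroup.mem_zpowers σ) _

theorem z_zpow : σ ^ h = σ ^ (h : ℤ) := (zpow_natCast σ h).symm

theorem z_inv : (σ ^ h)⁻¹ = σ ^ h := inv_eq_of_mul_eq_one_right S.z_sq

theorem z_comm {g : G} (hg : g ∈ D) : g * σ ^ h = σ ^ h * g := by
  have hz : σ ^ (-(h : ℤ)) = σ ^ (h : ℤ) := by rw [zpow_neg, zpow_natCast, S.z_inv]
  rw [S.z_zpow]
  obtain ⟨i, rfl | rfl⟩ := S.cases g hg
  · rw [← zpow_add, ← zpow_add, add_comm]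
  · rw [mul_assoc, S.τ_mul_rot, hz, ← mul_assoc, ← mul_assoc, ← zpow_add, ← zpow_add, add_comm]

theorem le_centralizer : D ≤ C[Z[σ ^ h]] := fun _ hg => mem_cz.2 (S.z_comm hg)

theorem conj_rot {w a : G} (hw : w ∈ D) (ha : a ∈ Z[σ]) :
    w * a * w⁻¹ = a ∨ w * a * w⁻¹ = a⁻¹ := by
  obtain ⟨j, rfl⟩ := Subgroup.mem_zpowers_iff.1 ha
  obtain ⟨i, rfl | rfl⟩ := S.cases w hw
  · left
    rw [← zpow_add, ← zpow_neg, ← zpow_add]
    congr 1; ring
  · right
    rw [mul_inv_rev, show σ ^ i * τ * σ ^ j * (τ⁻¹ * (σ ^ i)⁻¹) =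
      σ ^ i * (τ * σ ^ j * τ⁻¹) * (σ ^ i)⁻¹ by group, S.τ_rot, ← zpow_neg, ← zpow_add,
      ← zpow_add, ← zpow_neg]
    congr 1; ring

theorem refl_conj (i j : ℤ) : σ ^ j * (σ ^ i * τ) * (σ ^ j)⁻¹ = σ ^ (i + 2 * j) * τ := by
  rw [← zpow_neg, mul_assoc, mul_assoc, S.τ_mul_rot, ← mul_assoc, ← mul_assoc, ← zpow_add,
    ← zpow_add]
  congr 2; ring

/-- The centralizer in `D` of a rotation. -/
theorem card_centralizer_rot {a : G} (ha : a ∈ Z[σ]) :
    Nat.card (D ⊓ C[Z[a]] : Subgroup G) = if a * a = 1 then 4 * h else 2 * h := by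
  split_ifs with h2
  · rw [inf_eq_left.2, S.card]
    rcases S.eq_z ha h2 with rfl | rfl
    · intro g _; exact mem_cz.2 (by simp)
    · exact S.le_centralizer
  · have heq : (D ⊓ C[Z[a]] : Subgroup G) = Z[σ] := by
      refine le_antisymm (fun g hg => ?_) (le_inf (Subgroup.zpowers_le.2 S.σ_mem)
        (Subgroup.zpowers_le.2 (mem_cz.2 ?_)))
      · by_contra hn
        obtain ⟨i, rfl⟩ := S.exists_refl hg.1 hn
        rcases S.conj_rot hg.1 ha with h3 | h3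
        · obtain ⟨j, rfl⟩ := Subgroup.mem_zpowers_iff.1 ha
          refine h2 ?_
          rw [show σ ^ i * τ * σ ^ j * (σ ^ i * τ)⁻¹ = σ ^ i * (τ * σ ^ j * τ⁻¹) * (σ ^ i)⁻¹ by group,
            S.τ_rot, ← zpow_neg, ← zpow_add, ← zpow_add] at h3
          rw [show i + -j + -i = -j by ring] at h3
          calc σ ^ j * σ ^ j = σ ^ j * σ ^ (-j) := by rw [h3]
            _ = 1 := by rw [← zpow_add, add_neg_cancel, zpow_zero]
        · refine h2 ?_
          have h4 : σ ^ i * τ * a * (σ ^ i * τ)⁻¹ = a := mul_inv_eq_iff_eq_mul.2 (mem_cz.1 hg.2)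
          rw [h4] at h3
          rw [eq_inv_iff_mul_eq_one] at h3
          exact h3
      · obtain ⟨j, rfl⟩ := Subgroup.mem_zpowers_iff.1 ha
        exact (Commute.self_zpow σ j).eq
    rw [heq, Nat.card_zpowers, S.ordσ]

/-- The centralizer in `D` of a reflection. -/
theorem card_centralizer_refl (i : ℤ) :
    Nat.card (D ⊓ C[Z[σ ^ i * τ]] : Subgroup G) = 4 := by
  have hr : σ ^ i * τ ∈ D := D.mul_mem (D.zpow_mem S.σ_mem i) S.τ_mem
  set r := σ ^ i * τ with hrdef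
  have hrA : r ∉ Z[σ] := S.refl_not i
  have hmem : ∀ g, g ∈ (D ⊓ C[Z[r]] : Subgroup G) ↔
      g = 1 ∨ g = σ ^ h ∨ g = r ∨ g = σ ^ h * r := by
    intro g
    constructor
    · rintro ⟨hg, hc⟩
      have hc' : g * r = r * g := mem_cz.1 hc
      by_cases hgA : g ∈ Z[σ]
      · obtain ⟨j, rfl⟩ := Subgroup.mem_zpowers_iff.1 hgA
        have h3 : σ ^ (i + 2 * j) * τ = σ ^ i * τ := by
          rw [← S.refl_conj, ← hrdef]; exact mul_inv_eq_iff_eq_mul.2 hc'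
        have h4 : σ ^ j * σ ^ j = 1 := by
          have h5 := mul_right_cancel h3
          rw [zpow_add, mul_eq_left, two_mul, zpow_add] at h5
          exact h5
        rcases S.eq_z (Subgroup.zpow_mem _ (Subgroup.mem_zpowers σ) j) h4 with e1 | e1
        · exact Or.inl e1
        · exact Or.inr (Or.inl e1)
      · have hp := S.refl_mul_mem hg hr hgA hrA
        have h4 : g * r * (g * r) = 1 := by
          calc g * r * (g * r) = g * r * (r * g) := by rw [hc']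
            _ = g * (r * r) * g := by group
            _ = 1 := by rw [S.refl_sq hr hrA, mul_one, S.refl_sq hg hgA]
        have hgr : g = g * r * r := by rw [mul_assoc, S.refl_sq hr hrA, mul_one]
        rcases S.eq_z hp h4 with e1 | e1
        · exact Or.inr (Or.inr (Or.inl (by rw [hgr, e1, one_mul])))
        · exact Or.inr (Or.inr (Or.inr (by rw [hgr, e1])))
    · have hz : σ ^ h ∈ (D ⊓ C[Z[r]] : Subgroup G) :=
        ⟨S.pow_mem_D h, mem_cz.2 (S.z_comm hr).symm⟩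
      have hr' : r ∈ (D ⊓ C[Z[r]] : Subgroup G) := ⟨hr, mem_cz.2 rfl⟩
      rintro (rfl | rfl | rfl | rfl)
      exacts [one_mem _, hz, hr', mul_mem hz hr']
  have hset : ((D ⊓ C[Z[r]] : Subgroup G) : Set G) =
      ↑({1, σ ^ h, r, σ ^ h * r} : Finset G) := by
    ext g
    simp only [SetLike.mem_coe, hmem g, coe_insert, coe_singleton, Set.mem_insert_iff,
      Set.mem_singleton_iff]
  have hzA : σ ^ h ∈ Z[σ] := Subgroup.pow_mem _ (Subgroup.mem_zpowers σ) h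
  have hne1 : r ≠ 1 := fun e1 => hrA (e1 ▸ one_mem _)
  have hne2 : σ ^ h ≠ r := fun e1 => hrA (e1 ▸ hzA)
  have hne3 : σ ^ h * r ≠ 1 := fun e1 => hne2 (by
    rw [← inv_eq_of_mul_eq_one_right e1, S.z_inv])
  have hne4 : σ ^ h * r ≠ σ ^ h := fun e1 => hne1 (mul_eq_left.1 e1)
  have hne5 : σ ^ h * r ≠ r := fun e1 => S.z_ne_one (mul_eq_right.1 e1)
  rw [← SetLike.coe_sort_coe, hset, Nat.card_coe_set_eq, Set.ncard_coe_finset]
  rw [card_insert_of_notMem (by simp [S.z_ne_one.symm, hne1.symm, hne3.symm]),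
    card_insert_of_notMem (by simp [hne2, hne4.symm]),
    card_insert_of_notMem (by simp [hne5.symm]), card_singleton]

end DihData

end CfsgLib.DihDefect
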