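import Cfsg.Agent.BlocksB.DihedralDefect.Setup
import Cfsg.Agent.BlocksB.Cyclic.Values
import Cfsg.Agent.BlocksB.DihedralPrincipal.Table

/-!
# A block with dihedral defect group: the values on the rotations
-/

set_option autoImplicit false
set_option linter.style.haveILetI false
set_option linter.unusedSectionVars false

namespace CfsgLib.DihDefect

open Cfsg Finset CfsgLib.Block CfsgLib.Block.Chr CfsgLib.BrauerPairs CfsgLib.BlockStar
  CfsgLib.BlockB CfsgLib.Cyclic CfsgLib.Char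
open scoped ComplexConjugate
open scoped Classical

universe u

variable {M : Ideal AlgInt} [M.IsPrime] [Fact (Nat.Prime 2)] [CharP (Residue M) 2]
  {G : Type u} [Group G] [Fintype G]

local notation "𝕜" => Residue M
local notation "Z[" x "]" => Subgroup.zpowers x
local notation "C[" Q "]" => Subgroup.centralizer (SetLike.coe Q)

namespace DihData

variable {B : Set (IrrCharacter G)} {D : Subgroup G} {e : MonoidAlgebra (Residue M) G}
  {σ τ : G} {h : ℕ} (S : DihData (M := M) B D e σ τ h)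
include S

/-- A rotation in the defect group inside the centralizer of `z`. -/
def rot (i : ℕ) : D.subgroupOf C[Z[σ ^ h]] :=
  ⟨⟨σ ^ i, S.le_centralizer (S.pow_mem_D i)⟩, Subgroup.mem_subgroupOf.2 (S.pow_mem_D i)⟩

@[simp] theorem coe_rot (i : ℕ) : (((S.rot i : D.subgroupOf C[Z[σ ^ h]]) :
    C[Z[σ ^ h]]) : G) = σ ^ i := rfl

theorem rot_central (g : C[Z[σ ^ h]]) :
    (S.rot h : C[Z[σ ^ h]]) * g = g * (S.rot h : C[Z[σ ^ h]]) :=
  Subtype.ext (mem_cz.1 g.2).symm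

/-- Rotations are inverted inside the defect group. -/
theorem rot_isConj_inv (i : ℕ) : IsConj (S.rot i) (S.rot i)⁻¹ := by
  refine isConj_iff.2 ⟨⟨⟨τ, S.le_centralizer S.τ_mem⟩, Subgroup.mem_subgroupOf.2 S.τ_mem⟩,
    Subtype.ext (Subtype.ext ?_)⟩
  show τ * σ ^ i * τ⁻¹ = (σ ^ i)⁻¹
  rw [← zpow_natCast, S.τ_rot, zpow_neg]

end DihData

/-- The data of the block at the central involution. -/
structure LocData {B : Set (IrrCharacter G)} {D : Subgroup G} {e : MonoidAlgebra (Residue M) G}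
    {σ τ : G} {h : ℕ} (S : DihData (M := M) B D e σ τ h) [Fintype C[Z[σ ^ h]]]
    (f : Set (IrrCharacter C[Z[σ ^ h]])) (e' : MonoidAlgebra 𝕜 C[Z[σ ^ h]])
    (χ₀ : IrrCharacter C[Z[σ ^ h]]) (Φ : IrrCharacter (D.subgroupOf C[Z[σ ^ h]]) ≃ f) : Prop where
  hf : IsPBlock M f
  hfe : idemIn M C[Z[σ ^ h]] f = subBlk 2 D e (σ ^ h)
  hbd : blockDefect 2 f = blockDefect 2 B
  emb_e : emb C[Z[σ ^ h]] e' = e
  hmax' : IsMaxPair 2 (idem M f) (D.subgroupOf C[Z[σ ^ h]], e')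
  hnil : IsNil 2 (idem M f)
  mem₀ : χ₀ ∈ f
  h0 : blockHeight 2 f (χ₀ : C[Z[σ ^ h]] → ℂ) = 0
  hreg : ∀ (ζ : IrrCharacter (D.subgroupOf C[Z[σ ^ h]])) (s : C[Z[σ ^ h]]), ¬ 2 ∣ orderOf s →
    ((Φ ζ : IrrCharacter C[Z[σ ^ h]]) : C[Z[σ ^ h]] → ℂ) s =
      (charDegree (ζ : D.subgroupOf C[Z[σ ^ h]] → ℂ) : ℂ) * (χ₀ : C[Z[σ ^ h]] → ℂ) s
  hΦ : ∀ ζ : IrrCharacter (D.subgroupOf C[Z[σ ^ h]]),
    ((Φ ζ : IrrCharacter C[Z[σ ^ h]]) : C[Z[σ ^ h]] → ℂ) =
      starFun 2 (weight 2 (D.subgroupOf C[Z[σ ^ h]]) e'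
        (extendByZero (D.subgroupOf C[Z[σ ^ h]]) (ζ : D.subgroupOf C[Z[σ ^ h]] → ℂ))) χ₀

/-- The combination of the characters of the defect group given by the multiplicities. -/
noncomputable def theta {H : Type u} [Group H] {L : Subgroup H} [Fintype L] {P' : Subgroup L}
    {f : Set (IrrCharacter L)} (Φ : IrrCharacter P' ≃ f) (χ : IrrCharacter H) (u : P') : ℂ :=
  ∑ᶠ ζ : IrrCharacter P',
    classInner (fun l : L => (χ : H → ℂ) l) ((Φ ζ : IrrCharacter L) : L → ℂ) * (ζ : P' → ℂ) u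

theorem theta_eq {H : Type u} [Group H] [Finite H] {L : Subgroup H} [Fintype L] {P' : Subgroup L}
    {f : Set (IrrCharacter L)} (Φ : IrrCharacter P' ≃ f) (χ : IrrCharacter H) :
    IsGeneralizedCharacter P' (theta Φ χ) := by
  haveI := Fintype.ofFinite P'
  letI := irrFintype (G := P')
  have hN : ∀ ζ : IrrCharacter P', ∃ m : ℕ,
      classInner (fun l : L => (χ : H → ℂ) l) ((Φ ζ : IrrCharacter L) : L → ℂ) = (m : ℂ) :=
    fun ζ => IsCharacter.exists_classInner_eq_natCast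
      (IsCharacter.restrict (isCharacter_irr χ) L) (Φ ζ : IrrCharacter L).2
  choose N hN using hN
  have he : theta Φ χ = ∑ ζ : IrrCharacter P', (((N ζ : ℕ) : ℤ) : ℂ) • (ζ : P' → ℂ) := by
    funext u
    rw [theta, finsum_eq_sum_of_fintype, Finset.sum_apply]
    exact sum_congr rfl fun ζ _ => by rw [hN, Pi.smul_apply, smul_eq_mul, Int.cast_natCast]
  rw [he]
  exact isGeneralized_sum _ fun ζ _ =>
    IsGeneralized.intCast_smul (IsIrrCharacter.isGeneralized ζ.2) _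

namespace DihData

variable {B : Set (IrrCharacter G)} {D : Subgroup G} {e : MonoidAlgebra (Residue M) G}
  {σ τ : G} {h : ℕ} (S : DihData (M := M) B D e σ τ h)
include S

/-- **The block at the central involution is nilpotent.** -/
theorem exists_locData [Fintype C[Z[σ ^ h]]] :
    ∃ f e' χ₀ Φ, LocData S f e' χ₀ Φ := by
  have hM := S.hM
  obtain ⟨f, hf, hfe⟩ := exists_idemIn_eq hM
    (PLE.isPair (subBlk_ple S.pair (S.pow_mem_D h)) S.pair).2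
  obtain ⟨hbd, e', hemb, hmax'⟩ :=
    exists_local_maxPair hM S.hB S.hmax (S.pow_mem_D h) S.le_centralizer hf hfe
  have hnil : IsNil 2 (idem M f) := by
    rw [isNil_iff_below hmax'.1.1 (isBlk_idem hM hf) hmax']
    intro Q f' hle t ht hodd
    have hQD : ∀ q ∈ Q, (q : G) ∈ D := fun q hq => Subgroup.mem_subgroupOf.1 (hle.le hq)
    have hzc : ∀ g : C[Z[σ ^ h]], g * (S.rot h : C[Z[σ ^ h]]) = (S.rot h : C[Z[σ ^ h]]) * g :=
      fun g => (S.rot_central g).symm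
    have hmem : ∀ g : C[Z[σ ^ h]],
        g ∈ Z[(S.rot 1 : C[Z[σ ^ h]])] ↔ (g : G) ∈ Z[σ] := fun g => by
      constructor
      · intro hg
        obtain ⟨i, rfl⟩ := Subgroup.mem_zpowers_iff.1 hg
        exact Subgroup.mem_zpowers_iff.2 ⟨i, by simp⟩
      · intro hg
        obtain ⟨i, hi⟩ := Subgroup.mem_zpowers_iff.1 hg
        exact Subgroup.mem_zpowers_iff.2 ⟨i, Subtype.ext (by simp [hi])⟩
    obtain ⟨k, hk⟩ := S.hh
    have hord : orderOf (S.rot 1 : C[Z[σ ^ h]]) = 2 ^ (k + 2) := by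
      rw [← Subgroup.orderOf_coe, coe_rot, pow_one, S.ordσ, hk]; ring
    have key := centralizes_of_dihedral (σ := (S.rot 1 : C[Z[σ ^ h]]))
      (z := (S.rot h : C[Z[σ ^ h]])) (t := t) (Q := Q) hord
      (fun a ha h2 => by
        rcases S.eq_z ((hmem a).1 ha) (congrArg Subtype.val h2) with e1 | e1
        · exact Or.inl (Subtype.ext e1)
        · exact Or.inr (Subtype.ext e1))
      (fun g hg hn => Subtype.ext (S.refl_sq (hQD g hg) fun hm => hn ((hmem g).2 hm)))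
      (fun g hg g' hg' hn hn' => (hmem _).2 (S.refl_mul_mem (hQD g hg) (hQD g' hg')
        (fun hm => hn ((hmem g).2 hm)) fun hm => hn' ((hmem g').2 hm)))
      (fun g hg => (Subgroup.mem_normalizer_iff.1 ht.1 g).1 hg)
      (by rw [hzc t, mul_inv_cancel_right]) hodd
    exact Subgroup.mem_centralizer_iff.2 fun g hg => (mul_inv_eq_iff_eq_mul.1 (key g hg)).symm
  obtain ⟨χ₀, hχ₀, h0⟩ := exists_height_zero hM hf
  obtain ⟨Φ, hreg, hΦ⟩ := exists_characters hM hf hnil hmax' hχ₀ h0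
  exact ⟨f, e', χ₀, Φ, hf, hfe, hbd, hemb, hmax', hnil, hχ₀, h0, hreg, hΦ⟩

end DihData

namespace LocData

variable {B : Set (IrrCharacter G)} {D : Subgroup G} {e : MonoidAlgebra (Residue M) G}
  {σ τ : G} {h : ℕ} {S : DihData (M := M) B D e σ τ h} [Fintype C[Z[σ ^ h]]]
  {f : Set (IrrCharacter C[Z[σ ^ h]])} {e' : MonoidAlgebra (Residue M) C[Z[σ ^ h]]}
  {χ₀ : IrrCharacter C[Z[σ ^ h]]} {Φ : IrrCharacter (D.subgroupOf C[Z[σ ^ h]]) ≃ f}
  (T : LocData S f e' χ₀ Φ)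
include T

local notation "P'" => Subgroup.subgroupOf D C[Z[σ ^ h]]

theorem hP' : IsPair 2 (P', e') := T.hmax'.1.1

theorem isBlk_sub {u : C[Z[σ ^ h]]} (hu : u ∈ P') :
    IsBlk 𝕜 C[Z[u]] (subBlk 2 P' e' u) :=
  (PLE.isPair (subBlk_ple T.hP' hu) T.hP').2

theorem val_self (ζ : IrrCharacter P') (u : P') (s : C[Z[σ ^ h]])
    (hs : PElt 2 (u : C[Z[σ ^ h]]) s) :
    val (Φ ζ : IrrCharacter C[Z[σ ^ h]]) (u : C[Z[σ ^ h]]) s (subBlk 2 P' e' u) =
      (ζ : P' → ℂ) u * val χ₀ (u : C[Z[σ ^ h]]) s (subBlk 2 P' e' u) := by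
  have hM := S.hM
  haveI := Fintype.ofFinite C[Z[(u : C[Z[σ ^ h]])]]
  obtain ⟨d, hd, hde⟩ := exists_idemIn_eq hM (T.isBlk_sub u.2)
  rw [← hde, val_idemIn hM _ hs hd, val_idemIn hM _ hs hd,
    subPart_starFun hM (T.hΦ ζ) (mem_pSet.2 hs.pow) hd, Pi.smul_apply, smul_eq_mul, hde,
    weight_of_ple (stable_extend (exists_conj_mem hM T.hf T.hnil T.hmax') (isClassFunction_irr ζ))
      (subBlk_ple T.hP' u.2)]
  congr 1
  exact extend_apply_mem (ζ : P' → ℂ) u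

theorem centralizer_le {u : P'} (hu : ((u : C[Z[σ ^ h]]) : G) ∈ Z[σ]) (hu1 : u ≠ 1) :
    (C[Z[((u : C[Z[σ ^ h]]) : G)]] : Subgroup G) ≤ C[Z[σ ^ h]] :=
  S.centralizer_le_z hu fun e1 => hu1 (Subtype.ext (Subtype.ext e1))

theorem emb_sub {u : P'} (hC : (C[Z[((u : C[Z[σ ^ h]]) : G)]] : Subgroup G) ≤ C[Z[σ ^ h]]) :
    emb C[Z[σ ^ h]] (subBlk 2 P' e' u) = subBlk 2 D e ((u : C[Z[σ ^ h]]) : G) := by
  have hmapZ : Z[(u : C[Z[σ ^ h]])].map (C[Z[σ ^ h]]).subtype =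
      Z[((u : C[Z[σ ^ h]]) : G)] := MonoidHom.map_zpowers _ _
  have h1 := ple_embPair C[Z[σ ^ h]] (x := (Z[(u : C[Z[σ ^ h]])], subBlk 2 P' e' u))
    (by rw [hmapZ]; exact hC) (subBlk_ple T.hP' u.2)
  rw [show embPair C[Z[σ ^ h]] (P', e') = (D, e) from
      Prod.ext (Subgroup.map_subgroupOf_eq_of_le S.le_centralizer) T.emb_e,
    show embPair C[Z[σ ^ h]] (Z[(u : C[Z[σ ^ h]])], subBlk 2 P' e' u) =
      (Z[((u : C[Z[σ ^ h]]) : G)], emb C[Z[σ ^ h]] (subBlk 2 P' e' u)) from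
      Prod.ext hmapZ rfl] at h1
  exact ple_unique S.pair h1 (subBlk_ple S.pair (Subgroup.mem_subgroupOf.1 u.2))

/-- **The values on the rotations.** -/
theorem val_eq_theta (χ : IrrCharacter G) {u : P'}
    (hC : (C[Z[((u : C[Z[σ ^ h]]) : G)]] : Subgroup G) ≤ C[Z[σ ^ h]])
    {s : C[Z[σ ^ h]]} (hs : PElt 2 (u : C[Z[σ ^ h]]) s) :
    val χ ((u : C[Z[σ ^ h]]) : G) (s : G) (subBlk 2 D e ((u : C[Z[σ ^ h]]) : G)) =
      theta Φ χ u * val χ₀ (u : C[Z[σ ^ h]]) s (subBlk 2 P' e' u) := by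
  have hM := S.hM
  letI := irrFintype (G := C[Z[σ ^ h]])
  haveI := Fintype.ofFinite P'
  letI := irrFintype (G := P')
  have hs' : PElt 2 ((u : C[Z[σ ^ h]]) : G) (s : G) :=
    ⟨by obtain ⟨j, hj⟩ := hs.pow; exact ⟨j, congrArg Subtype.val hj⟩,
      by rw [Subgroup.orderOf_coe]; exact hs.reg, hs.comm.map (C[Z[σ ^ h]]).subtype⟩
  have hε := T.isBlk_sub u.2
  rw [← T.emb_sub hC, val_emb hM C[Z[σ ^ h]] χ hs hs' hε.idem (hε.fixBy.mono (sup_le_cz hs)),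
    ← sum_subset (subset_univ (univ.filter (· ∈ f))) (fun ξ _ hξ => by
      rw [val_eq_zero_of_not_pair hM (isPBlock_blockOf ξ) (mem_blockOf_self ξ) hs hε, mul_zero]
      intro hp
      refine hξ (mem_filter.2 ⟨mem_univ _, ?_⟩)
      have h1 : IsPairOf 2 (idem M f) (Z[(u : C[Z[σ ^ h]])], subBlk 2 P' e' u) :=
        (isPairOf_iff_of_ple (isBlk_idem hM T.hf) (subBlk_ple T.hP' u.2) T.hP').2 T.hmax'.1
      have h2 := (existsUnique_isPairOf h1.1).unique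
        ⟨isBlk_idem hM (isPBlock_blockOf ξ), hp⟩ ⟨isBlk_idem hM T.hf, h1⟩
      rw [← idem_injective (isPBlock_blockOf ξ) T.hf h2]
      exact mem_blockOf_self ξ),
    sum_subtype (univ.filter (· ∈ f)) (p := (· ∈ f)) (by simp)
      (fun ξ : IrrCharacter C[Z[σ ^ h]] =>
        classInner (fun l : C[Z[σ ^ h]] => (χ : G → ℂ) l) (ξ : C[Z[σ ^ h]] → ℂ) *
          val ξ (u : C[Z[σ ^ h]]) s (subBlk 2 P' e' u)),
    theta, finsum_eq_sum_of_fintype, sum_mul, ← Φ.sum_comp]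
  exact sum_congr rfl fun ζ _ => by rw [T.val_self ζ u s hs, mul_assoc]

/-- **The contributions of the rotations.** -/
theorem contribR_eq (χ ψ : IrrCharacter G) {u : P'}
    (hC : (C[Z[((u : C[Z[σ ^ h]]) : G)]] : Subgroup G) ≤ C[Z[σ ^ h]]) :
    contribR 2 χ ψ ((u : C[Z[σ ^ h]]) : G) (subBlk 2 D e ((u : C[Z[σ ^ h]]) : G)) =
      theta Φ χ u * conj (theta Φ ψ u) *
        (Nat.card (D ⊓ C[Z[((u : C[Z[σ ^ h]]) : G)]] : Subgroup G) : ℂ)⁻¹ := by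
  have hM := S.hM
  have hmapZ : Z[(u : C[Z[σ ^ h]])].map (C[Z[σ ^ h]]).subtype =
      Z[((u : C[Z[σ ^ h]]) : G)] := MonoidHom.map_zpowers _ _
  have hcz : (C[Z[(u : C[Z[σ ^ h]])]]).map (C[Z[σ ^ h]]).subtype =
      C[Z[((u : C[Z[σ ^ h]]) : G)]] := by
    rw [map_centralizer_subtype C[Z[σ ^ h]] _ (by rw [hmapZ]; exact hC), hmapZ]
  have hcard : Nat.card (P' ⊓ C[Z[(u : C[Z[σ ^ h]])]] : Subgroup C[Z[σ ^ h]]) =
      Nat.card (D ⊓ C[Z[((u : C[Z[σ ^ h]]) : G)]] : Subgroup G) := by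
    rw [← Subgroup.card_map_of_injective (K := (P' ⊓ C[Z[(u : C[Z[σ ^ h]])]] :
        Subgroup C[Z[σ ^ h]])) (C[Z[σ ^ h]]).subtype_injective,
      Subgroup.map_inf _ _ _ (C[Z[σ ^ h]]).subtype_injective, hcz,
      Subgroup.map_subgroupOf_eq_of_le S.le_centralizer]
  have hone : contribR 2 χ₀ χ₀ (u : C[Z[σ ^ h]]) (subBlk 2 P' e' u) =
      (Nat.card (D ⊓ C[Z[((u : C[Z[σ ^ h]]) : G)]] : Subgroup G) : ℂ)⁻¹ := by
    have h1 := aFun_eq_one hM T.hf T.hnil T.hmax' T.mem₀ T.h0 u.2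
    rw [aFun, hcard] at h1
    exact eq_inv_of_mul_eq_one_right h1
  rw [← hone, contribR, contribR, ← hcz,
    Subgroup.card_map_of_injective (C[Z[σ ^ h]]).subtype_injective, mul_left_comm]
  congr 1
  rw [mul_sum, hcz]
  symm
  refine sum_bij (fun s _ => (s : G)) ?_ ?_ ?_ ?_
  · intro s hs
    obtain ⟨-, h1, h2⟩ := mem_filter.1 hs
    refine mem_filter.2 ⟨mem_univ _, hcz ▸ ⟨s, h1, rfl⟩, ?_⟩
    rwa [Subgroup.orderOf_coe]
  · exact fun _ _ _ _ e1 => Subtype.ext e1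
  · intro g hg
    obtain ⟨-, h1, h2⟩ := mem_filter.1 hg
    obtain ⟨s, hs, rfl⟩ := hcz.ge h1
    exact ⟨s, mem_filter.2 ⟨mem_univ _, hs,
      by rwa [Subgroup.coe_subtype, Subgroup.orderOf_coe] at h2⟩, rfl⟩
  · intro s hs
    obtain ⟨-, h1, h2⟩ := mem_filter.1 hs
    have hp : PElt 2 (u : C[Z[σ ^ h]]) s :=
      ⟨mem_pSet.1 (mem_pSet_of_mem T.hP' u.2), h2, (mem_cz.1 h1).symm⟩
    rw [T.val_eq_theta χ hC hp, T.val_eq_theta ψ hC hp, map_mul]
    ring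

/-- The values at the central involution of the members of the block there. -/
theorem val_z {ξ : IrrCharacter C[Z[σ ^ h]]} (hξ : ξ ∈ f) :
    val ξ (S.rot h : C[Z[σ ^ h]]) 1 (subBlk 2 P' e' (S.rot h : C[Z[σ ^ h]])) =
      (ξ : C[Z[σ ^ h]] → ℂ) (S.rot h : C[Z[σ ^ h]]) := by
  have hM := S.hM
  set z' : C[Z[σ ^ h]] := (S.rot h : C[Z[σ ^ h]])
  have hs : PElt 2 z' 1 := ⟨mem_pSet.1 (mem_pSet_of_mem T.hP' (S.rot h).2),
    by rw [orderOf_one]; exact Nat.prime_two.not_dvd_one, Commute.one_right _⟩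
  have htop : (C[Z[z']] : Subgroup C[Z[σ ^ h]]) = ⊤ :=
    eq_top_iff.2 fun g _ => mem_cz.2 (S.rot_central g).symm
  have hall : ∀ d, IsBlk 𝕜 C[Z[z']] d → IsPairOf 2 (idem M f) (Z[z'], d) → d = idem M f := by
    intro d hd hp
    have h1 : br Z[z'] (idem M f) * d = d := hp.2
    rw [br_eq_self (by rw [htop]; exact suppIn_top _)] at h1
    rw [htop] at hd
    by_contra hne
    have h2 := hd.mul_eq_zero_of_ne (alg_comm (k := 𝕜) (le_refl _)) (isBlk_idem hM T.hf) hne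
    rw [← alg_comm (k := 𝕜) (le_refl _) _ (isBlk_idem hM T.hf).mem _ hd.mem] at h2
    exact hd.ne_zero (h1.symm.trans h2)
  have hε := T.isBlk_sub (S.rot h).2
  have hεp : IsPairOf 2 (idem M f) (Z[z'], subBlk 2 P' e' z') :=
    (isPairOf_iff_of_ple (isBlk_idem hM T.hf) (subBlk_ple T.hP' (S.rot h).2) T.hP').2 T.hmax'.1
  have h3 := wsum_const_one (M := M) hM ξ hs
  rw [mul_one] at h3
  rw [← h3, wsum, sum_eq_single (subBlk 2 P' e' z')]
  · rw [br_one, one_mul, one_mul]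
  · intro d hd hne
    rw [br_one, one_mul, one_mul]
    exact val_eq_zero_of_not_pair hM T.hf hξ hs (mem_blks.1 hd) fun hp =>
      hne ((hall d (mem_blks.1 hd) hp).trans (hall _ hε hεp).symm)
  · exact fun hn => absurd (mem_blks.2 hε) hn

/-- The value of a member of `B` at the central involution and the block there. -/
theorem val_z_theta (χ : IrrCharacter G) :
    val χ (σ ^ h) 1 (subBlk 2 D e (σ ^ h)) =
      theta Φ χ (S.rot h) * (χ₀ : C[Z[σ ^ h]] → ℂ) (S.rot h : C[Z[σ ^ h]]) := by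
  have hs : PElt 2 (S.rot h : C[Z[σ ^ h]]) 1 :=
    ⟨mem_pSet.1 (mem_pSet_of_mem T.hP' (S.rot h).2),
      by rw [orderOf_one]; exact Nat.prime_two.not_dvd_one, Commute.one_right _⟩
  have h1 := T.val_eq_theta χ (u := S.rot h) le_rfl hs
  rw [T.val_z T.mem₀] at h1
  exact h1

/-- The central involution acts on a member by a sign. -/
theorem apply_z :
    ((χ₀ : C[Z[σ ^ h]] → ℂ) (S.rot h : C[Z[σ ^ h]]) = (charDegree (χ₀ : C[Z[σ ^ h]] → ℂ) : ℂ)) ∨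
      ((χ₀ : C[Z[σ ^ h]] → ℂ) (S.rot h : C[Z[σ ^ h]]) =
        -(charDegree (χ₀ : C[Z[σ ^ h]] → ℂ) : ℂ)) := by
  set z' : C[Z[σ ^ h]] := (S.rot h : C[Z[σ ^ h]]) with hz'
  obtain ⟨w, -, hw⟩ := exists_central_scalar χ₀.2 (z := z') S.rot_central
  have h1 := hw 1
  rw [mul_one, (irr_one χ₀).1] at h1
  have h2 := hw z'
  rw [show z' * z' = 1 from Subtype.ext S.z_sq, (irr_one χ₀).1, h1, ← mul_assoc] at h2
  rcases mul_self_eq_one_iff.1 (mul_right_cancel₀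
    (Nat.cast_ne_zero.2 (irr_one χ₀).2.ne') (h2.symm.trans (one_mul _).symm)) with e1 | e1
  · exact Or.inl (by rw [h1, e1, one_mul])
  · exact Or.inr (by rw [h1, e1, neg_one_mul])

/-- The real values. -/
noncomputable def th (_T : LocData S f e' χ₀ Φ) (χ : IrrCharacter G) (i : ℕ) : ℝ :=
  (theta Φ χ (S.rot i)).re

theorem conj_theta (χ : IrrCharacter G) (i : ℕ) :
    conj (theta Φ χ (S.rot i)) = theta Φ χ (S.rot i) := by
  have hg := theta_eq Φ χ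
  rw [← IsGeneralized.apply_inv hg]
  obtain ⟨a, ha⟩ := isConj_iff.1 (S.rot_isConj_inv i)
  rw [← ha]
  exact IsGeneralized.isClassFunction hg (S.rot i) a

theorem th_eq (χ : IrrCharacter G) (i : ℕ) : (T.th χ i : ℂ) = theta Φ χ (S.rot i) :=
  (Complex.conj_eq_iff_re.1 (T.conj_theta χ i))

theorem th_neg (χ : IrrCharacter G) {i : ℕ} (hi : i ≤ 2 * h) :
    T.th χ (2 * h - i) = T.th χ i := by
  have he : S.rot (2 * h - i) = (S.rot i)⁻¹ := Subtype.ext (Subtype.ext (by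
    show σ ^ (2 * h - i) = (σ ^ i)⁻¹
    rw [eq_inv_iff_mul_eq_one, ← pow_add, Nat.sub_add_cancel hi, S.pow_eq_one]))
  obtain ⟨a, ha⟩ := isConj_iff.1 (S.rot_isConj_inv i)
  rw [th, th, he, ← ha]
  exact congrArg Complex.re (IsGeneralized.isClassFunction (theta_eq Φ χ) (S.rot i) a)

theorem contrib_rot (χ ψ : IrrCharacter G) {i : ℕ} (hi : σ ^ i ≠ 1) :
    contribR 2 χ ψ (σ ^ i) (subBlk 2 D e (σ ^ i)) =
      (T.th χ i : ℂ) * (T.th ψ i : ℂ) *
        (Nat.card (D ⊓ C[Z[σ ^ i]] : Subgroup G) : ℂ)⁻¹ := by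
  have h1 := T.contribR_eq χ ψ (u := S.rot i)
    (S.centralizer_le_z (Subgroup.pow_mem _ (Subgroup.mem_zpowers σ) i) hi)
  rw [T.conj_theta ψ i, ← T.th_eq χ i, ← T.th_eq ψ i] at h1
  exact h1

theorem val_z_th (χ : IrrCharacter G) :
    val χ (σ ^ h) 1 (subBlk 2 D e (σ ^ h)) =
      (T.th χ h : ℂ) * (χ₀ : C[Z[σ ^ h]] → ℂ) (S.rot h : C[Z[σ ^ h]]) := by
  rw [T.th_eq]; exact T.val_z_theta χ

/-- **The values are those of a character of the cyclic group.** -/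
theorem exists_coeff {ω : ℂ} (hω : IsPrimitiveRoot ω (2 * h)) (χ : IrrCharacter G) (j : ℕ) :
    ∃ a : ℤ, ∑ i ∈ range (2 * h), (T.th χ i : ℂ) * ω ^ (i * j) = ((2 * h : ℕ) : ℂ) * (a : ℂ) := by
  haveI := Fintype.ofFinite Z[σ]
  have hle : Z[σ] ≤ C[Z[σ ^ h]] := (Subgroup.zpowers_le.2 S.σ_mem).trans S.le_centralizer
  let κ : Z[σ] →* P' := MonoidHom.mk'
    (fun x => ⟨⟨x, hle x.2⟩, Subgroup.mem_subgroupOf.2 (S.rot_mem x.2)⟩) fun _ _ => rfl
  have hg := IsGeneralized.comp (theta_eq Φ χ) κ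
  have hω' : IsPrimitiveRoot ω⁻¹ (orderOf σ) := by rw [S.ordσ]; exact hω.inv
  obtain ⟨μ, hμ⟩ := CfsgLib.DihPrincipal.exists_chr hω' j
  obtain ⟨a, ha⟩ := IsGeneralized.exists_classInner_eq_int hg
    (IsIrrCharacter.isGeneralized (linearCharEquiv μ).1.2)
  refine ⟨a, ?_⟩
  rw [← ha, CfsgLib.Char.classInner_def, ← mul_assoc, Nat.card_zpowers, S.ordσ,
    mul_inv_cancel₀ (Nat.cast_ne_zero.2 (by have := S.h_pos; omega)), one_mul]
  refine sum_bij (fun i _ => (⟨σ ^ i, Subgroup.npow_mem_zpowers σ i⟩ : Z[σ]))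
    (fun _ _ => mem_univ _) (fun a ha b hb e1 => ?_) (fun x _ => ?_) (fun i _ => ?_)
  · rw [mem_range, ← S.ordσ] at ha hb
    exact pow_injOn_Iio_orderOf ha hb (congrArg Subtype.val e1)
  · obtain ⟨i, hi⟩ := mem_powers_iff_mem_zpowers.2 x.2
    refine ⟨i % orderOf σ, mem_range.2 (S.ordσ ▸ Nat.mod_lt _ (orderOf_pos σ)), Subtype.ext ?_⟩
    show σ ^ (i % orderOf σ) = (x : G)
    rw [pow_mod_orderOf]; exact hi
  · show _ = theta Φ χ (S.rot i) *
      conj ((μ ⟨σ ^ i, Subgroup.npow_mem_zpowers σ i⟩ : ℂˣ) : ℂ)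
    rw [← T.th_eq, hμ, map_pow, Complex.inv_eq_conj (Complex.norm_eq_one_of_pow_eq_one
      hω.pow_eq_one (by have := S.h_pos; omega)), Complex.conj_conj, mul_comm i j]

end LocData

end CfsgLib.DihDefect
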