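import Mathlib

/-!
# Integral vectors with the Gram matrix of a dihedral defect group
-/

set_option autoImplicit false
set_option linter.unusedSimpArgs false

namespace CfsgLib.DihDefect.Vectors

open Finset
open scoped Classical

/-- Three pairs of four points meeting pairwise in one point form a star or a triangle. -/
theorem third_pair {ι : Type*} [DecidableEq ι] {P S₁ S₂ : Finset ι} (hP : P.card = 4)
    (h1 : S₁ ⊆ P) (h2 : S₂ ⊆ P) (c1 : S₁.card = 2) (c2 : S₂.card = 2)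
    (h12 : (S₁ ∩ S₂).card = 1) :
    ∃ p a b c : ι, p ≠ a ∧ p ≠ b ∧ p ≠ c ∧ a ≠ b ∧ a ≠ c ∧ b ≠ c ∧ P = {p, a, b, c} ∧
      S₁ = {p, a} ∧ S₂ = {p, b} ∧ ∀ S₃ ⊆ P, S₃.card = 2 → (S₁ ∩ S₃).card = 1 →
        (S₂ ∩ S₃).card = 1 → S₃ = {p, c} ∨ S₃ = {a, b} := by
  obtain ⟨p, hp⟩ := card_eq_one.1 h12
  have hp12 := mem_inter.1 (hp ▸ mem_singleton_self p)
  obtain ⟨a, ha⟩ := card_eq_one.1 (show (S₁.erase p).card = 1 by
    rw [card_erase_of_mem hp12.1, c1])
  obtain ⟨b, hb⟩ := card_eq_one.1 (show (S₂.erase p).card = 1 by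
    rw [card_erase_of_mem hp12.2, c2])
  have ha' := mem_erase.1 (ha ▸ mem_singleton_self a)
  have hb' := mem_erase.1 (hb ▸ mem_singleton_self b)
  have hS₁ : S₁ = {p, a} := by rw [← insert_erase hp12.1, ha]
  have hS₂ : S₂ = {p, b} := by rw [← insert_erase hp12.2, hb]
  have hab : a ≠ b := fun e => ha'.1
    (mem_singleton.1 (hp ▸ mem_inter.2 ⟨ha'.2, e ▸ hb'.2⟩))
  have hsub : ({p, a, b} : Finset ι) ⊆ P := by
    intro i hi
    simp only [mem_insert, mem_singleton] at hi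
    rcases hi with rfl | rfl | rfl
    exacts [h1 hp12.1, h1 ha'.2, h2 hb'.2]
  obtain ⟨c, hc⟩ := card_eq_one.1 (show (P \ {p, a, b}).card = 1 by
    rw [card_sdiff_of_subset hsub, hP,
      card_insert_of_notMem (by simp [ha'.1.symm, hb'.1.symm]), card_pair hab])
  have hc' := mem_sdiff.1 (hc ▸ mem_singleton_self c)
  simp only [mem_insert, mem_singleton, not_or] at hc'
  have hPeq : P = {p, a, b, c} := by
    rw [← union_sdiff_of_subset hsub, hc]
    ext i; simp [or_assoc]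
  refine ⟨p, a, b, c, ha'.1.symm, hb'.1.symm, Ne.symm hc'.2.1, hab, Ne.symm hc'.2.2.1,
    Ne.symm hc'.2.2.2, hPeq, hS₁, hS₂, fun S₃ h3 c3 h13 h23 => ?_⟩
  have hsum : ∀ x y : ι, x ≠ y → ∀ S : Finset ι, (({x, y} : Finset ι) ∩ S).card =
      (if x ∈ S then 1 else 0) + (if y ∈ S then 1 else 0) := by
    intro x y hxy S
    by_cases hx : x ∈ S <;> by_cases hy : y ∈ S <;> simp [hx, hy, hxy, inter_comm]
  rw [hS₁, hsum p a ha'.1.symm] at h13
  rw [hS₂, hsum p b hb'.1.symm] at h23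
  by_cases hp3 : p ∈ S₃
  · have hna : a ∉ S₃ := fun e => by simp [hp3, e] at h13
    have hnb : b ∉ S₃ := fun e => by simp [hp3, e] at h23
    left
    refine eq_of_subset_of_card_le (fun i hi => ?_) (by rw [c3, card_pair (Ne.symm hc'.2.1)])
    have hiP := h3 hi
    rw [hPeq] at hiP
    simp only [mem_insert, mem_singleton] at hiP ⊢
    rcases hiP with rfl | rfl | rfl | rfl <;> simp_all
  · have ha3 : a ∈ S₃ := by by_contra e; simp [hp3, e] at h13
    have hb3 : b ∈ S₃ := by by_contra e; simp [hp3, e] at h23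
    right
    refine (eq_of_subset_of_card_le (fun i hi => ?_) (by rw [c3, card_pair hab])).symm
    simp only [mem_insert, mem_singleton] at hi
    rcases hi with rfl | rfl
    exacts [ha3, hb3]

/-- The data of the vectors. -/
structure Data (ι : Type*) [Fintype ι] (h : ℕ) where
  /-- the vectors -/
  v : ι → ℕ → ℤ
  /-- the values -/
  dz : ι → ℤ
  /-- the heights -/
  ht : ι → ℕ
  hh : ∃ k, h = 2 ^ (k + 1)
  gram : ∀ j ∈ Icc 1 h, ∀ k ∈ Icc 1 h,
    ∑ i, v i j * v i k = 2 + (if j = k then 1 else 0) + (if j = h ∧ k = h then 1 else 0)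
  dz_eq : ∀ i, dz i = v i h + 2 * ∑ l ∈ Ico 1 h, (-1) ^ l * v i l
  sum_sq : ∑ i, dz i ^ 2 = 4 * h
  ne_zero : ∀ i, dz i ≠ 0
  odd : ∀ i, Odd (dz i) ↔ ht i = 0
  four : ∀ i, 2 ≤ ht i → 4 ∣ dz i
  exists_zero : ∃ i, ht i = 0

namespace Data

variable {ι : Type*} [Fintype ι] {h : ℕ} (V : Data ι h)

/-- The members of height zero. -/
noncomputable def zeros : Finset ι := univ.filter fun i => V.ht i = 0

theorem mem_zeros {i : ι} : i ∈ V.zeros ↔ V.ht i = 0 := by simp [zeros]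

theorem h_pos (V : Data ι h) : 0 < h := by obtain ⟨k, rfl⟩ := V.hh; exact Nat.two_pow_pos _

theorem odd_vh (i : ι) : Odd (V.v i h) ↔ i ∈ V.zeros := by
  rw [V.mem_zeros, ← V.odd, V.dz_eq]
  simp [Int.odd_add]

theorem zeros_props : V.zeros.card = 4 ∧ (∀ i ∈ V.zeros, V.v i h * V.v i h = 1) ∧
    ∀ i, i ∉ V.zeros → V.v i h = 0 := by
  have hg := V.gram h (mem_Icc.2 ⟨V.h_pos, le_rfl⟩) h (mem_Icc.2 ⟨V.h_pos, le_rfl⟩)
  simp only [and_self, if_true] at hg
  set g : ι → ℤ := fun i => V.v i h * V.v i h - if i ∈ V.zeros then 1 else 0 with hgdef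
  have hnn : ∀ i ∈ (univ : Finset ι), 0 ≤ g i := fun i _ => by
    simp only [hgdef]
    split_ifs with hi
    · obtain ⟨a, ha⟩ := (V.odd_vh i).2 hi
      have : 0 ≤ a * (a + 1) := by rcases le_or_gt 0 a with h' | h' <;> nlinarith
      rw [ha]; linarith
    · rw [sub_zero]; exact mul_self_nonneg _
  have hsum : ∑ i, g i = 4 - (V.zeros.card : ℤ) := by
    simp only [hgdef, sum_sub_distrib, hg, sum_ite_mem, univ_inter, sum_const, nsmul_one]
    norm_num
  have hdvd : (4 : ℤ) ∣ 4 * (h : ℤ) - (V.zeros.card : ℤ) := by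
    have e : 4 * (h : ℤ) - (V.zeros.card : ℤ) =
        ∑ i, (V.dz i ^ 2 - if i ∈ V.zeros then 1 else 0) := by
      simp [sum_sub_distrib, V.sum_sq, sum_ite_mem]
    rw [e]
    refine dvd_sum fun i _ => ?_
    split_ifs with hi
    · obtain ⟨a, ha⟩ := (V.odd i).2 (V.mem_zeros.1 hi)
      exact ⟨a * a + a, by rw [ha]; ring⟩
    · obtain ⟨a, ha⟩ := Int.not_odd_iff_even.1 (fun ho => hi (V.mem_zeros.2 ((V.odd i).1 ho)))
      exact ⟨a * a, by rw [ha]; ring⟩
  have hpos : 0 < V.zeros.card := by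
    obtain ⟨i, hi⟩ := V.exists_zero
    exact card_pos.2 ⟨i, V.mem_zeros.2 hi⟩
  have hle : (V.zeros.card : ℤ) ≤ 4 := by linarith [sum_nonneg hnn, hsum]
  have h4 : V.zeros.card = 4 := by omega
  rw [h4, Nat.cast_ofNat, sub_self] at hsum
  have hall := (sum_eq_zero_iff_of_nonneg hnn).1 hsum
  refine ⟨h4, fun i hi => ?_, fun i hi => ?_⟩
  · have := hall i (mem_univ _)
    simp only [hgdef, if_pos hi] at this
    linarith
  · have := hall i (mem_univ _)
    simp only [hgdef, if_neg hi, sub_zero] at this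
    exact mul_self_eq_zero.1 this

/-- The shape of a vector below the top. -/
theorem shape {l : ℕ} (hl : l ∈ Ico 1 h) :
    ∃ (S : Finset ι) (x : ι) (s : ℤ), S ⊆ V.zeros ∧ S.card = 2 ∧ x ∉ V.zeros ∧ s * s = 1 ∧
      ∀ i, V.v i l = (if i ∈ S then V.v i h else 0) + (if i = x then s else 0) := by
  obtain ⟨h4, hone, hzero⟩ := V.zeros_props
  obtain ⟨hl1, hl2⟩ := mem_Ico.1 hl
  have hg1 := V.gram l (mem_Icc.2 ⟨hl1, hl2.le⟩) h (mem_Icc.2 ⟨V.h_pos, le_rfl⟩)
  have hg2 := V.gram l (mem_Icc.2 ⟨hl1, hl2.le⟩) l (mem_Icc.2 ⟨hl1, hl2.le⟩)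
  simp only [ne_of_lt hl2, if_false, false_and, add_zero, if_true] at hg1 hg2
  set w : ι → ℤ := fun i => V.v i l * V.v i h with hw
  have hsplit : ∀ F : ι → ℤ, ∑ i, F i = ∑ i ∈ V.zeros, F i + ∑ i ∈ V.zerosᶜ, F i :=
    fun F => (sum_add_sum_compl _ F).symm
  rw [hsplit, sum_eq_zero (s := V.zerosᶜ) fun i hi => by rw [hzero i (mem_compl.1 hi), mul_zero],
    add_zero] at hg1
  have hsq : ∀ i ∈ V.zeros, V.v i l * V.v i l = w i * w i := fun i hi => by
    linear_combination (-(V.v i l * V.v i l)) * hone i hi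
  rw [hsplit, sum_congr rfl hsq] at hg2
  have hterm : ∀ i ∈ V.zeros, 0 ≤ w i * (w i - 1) := fun i _ => by
    rcases le_or_gt (w i) 0 with h1 | h1
    · exact mul_nonneg_of_nonpos_of_nonpos h1 (by omega)
    · exact mul_nonneg h1.le (by omega)
  have hev : (2 : ℤ) ∣ ∑ i ∈ V.zeros, w i * (w i - 1) :=
    dvd_sum fun i _ => even_iff_two_dvd.1 (Int.even_mul_pred_self _)
  have hex : ∑ i ∈ V.zeros, w i * (w i - 1) = ∑ i ∈ V.zeros, w i * w i - 2 := by
    simp only [mul_sub, mul_one, sum_sub_distrib]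
    rw [hg1]
  have hout : 0 ≤ ∑ i ∈ V.zerosᶜ, V.v i l * V.v i l := sum_nonneg fun i _ => mul_self_nonneg _
  have hz : ∑ i ∈ V.zeros, w i * (w i - 1) = 0 := by
    have := sum_nonneg hterm; omega
  have hout1 : ∑ i ∈ V.zerosᶜ, V.v i l * V.v i l = 1 := by omega
  have hw01 : ∀ i ∈ V.zeros, w i = 0 ∨ w i = 1 := fun i hi => by
    rcases mul_eq_zero.1 ((sum_eq_zero_iff_of_nonneg hterm).1 hz i hi) with e | e
    · exact Or.inl e
    · exact Or.inr (by omega)
  obtain ⟨x, hx, hx0⟩ := exists_ne_zero_of_sum_ne_zero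
    (show ∑ i ∈ V.zerosᶜ, V.v i l * V.v i l ≠ 0 by omega)
  have hx1 : V.v x l * V.v x l = 1 ∧ ∀ i ∈ V.zerosᶜ, i ≠ x → V.v i l = 0 := by
    rw [← add_sum_erase _ _ hx] at hout1
    have h1 : 0 < V.v x l * V.v x l := lt_of_le_of_ne (mul_self_nonneg _) (Ne.symm hx0)
    have h2 : 0 ≤ ∑ i ∈ V.zerosᶜ.erase x, V.v i l * V.v i l :=
      sum_nonneg fun i _ => mul_self_nonneg _
    refine ⟨by omega, fun i hi hne => mul_self_eq_zero.1 ?_⟩
    exact (sum_eq_zero_iff_of_nonneg fun i _ => mul_self_nonneg _).1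
      (show ∑ i ∈ V.zerosᶜ.erase x, V.v i l * V.v i l = 0 by omega) i (mem_erase.2 ⟨hne, hi⟩)
  refine ⟨V.zeros.filter fun i => w i = 1, x, V.v x l, filter_subset _ _, ?_, mem_compl.1 hx,
    hx1.1, fun i => ?_⟩
  · have : ∑ i ∈ V.zeros, (if w i = 1 then (1 : ℤ) else 0) = 2 := by
      rw [← hg1]
      refine sum_congr rfl fun i hi => ?_
      show (if w i = 1 then (1 : ℤ) else 0) = w i
      rcases hw01 i hi with e | e <;> simp [e]
    rw [sum_boole] at this
    exact_mod_cast this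
  · by_cases hi : i ∈ V.zeros
    · have hix : i ≠ x := fun e => mem_compl.1 hx (e ▸ hi)
      have hval : V.v i l = w i * V.v i h := by
        linear_combination (-(V.v i l)) * hone i hi
      rcases hw01 i hi with e | e
      · rw [if_neg (by simp [e]), if_neg hix, hval, e]; ring
      · rw [if_pos (mem_filter.2 ⟨hi, e⟩), if_neg hix, hval, e]; ring
    · rw [if_neg (fun h' => hi (mem_filter.1 h').1), zero_add]
      by_cases hix : i = x
      · rw [if_pos hix, hix]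
      · rw [if_neg hix, hx1.2 i (mem_compl.2 hi) hix]

/-- **The conclusions from the vectors.** -/
theorem main : V.zeros.card = 4 ∧ (∀ i, V.ht i ≤ 1) ∧ Fintype.card ι ≤ h + 3 ∧
    (h + 3 ≤ Fintype.card ι ∨ (h = 4 ∧ Fintype.card ι = 5 ∧ ∀ e : ι → ℕ, (∀ i, 0 < e i) →
      ∑ i, e i ^ 2 = 16 → (∀ j ∈ Icc 1 h, ∑ i, V.v i j * (e i : ℤ) = 0) →
        (∃ i, V.ht i = 0 ∧ e i = 1) ∧ (∑ i, (V.dz i : ℚ) ^ 3 / (e i : ℚ) = 64 / 3 ∨
          ∑ i, (V.dz i : ℚ) ^ 3 / (e i : ℚ) = -(64 / 3)))) := by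
  obtain ⟨h4, hone, hzero⟩ := V.zeros_props
  choose S x s hS hS2 hx hs hv using fun l (hl : l ∈ Ico 1 h) => V.shape hl
  have hpair : ∀ l hl j hj, l ≠ j →
      (x l hl ≠ x j hj ∧ S l hl = S j hj) ∨
        (x l hl = x j hj ∧ s l hl = s j hj ∧ (S l hl ∩ S j hj).card = 1) := by
    intro l hl j hj hne
    have hg := V.gram l (mem_Icc.2 ⟨(mem_Ico.1 hl).1, (mem_Ico.1 hl).2.le⟩) j
      (mem_Icc.2 ⟨(mem_Ico.1 hj).1, (mem_Ico.1 hj).2.le⟩)
    rw [if_neg hne, if_neg (fun e => (mem_Ico.1 hl).2.ne e.1), add_zero, add_zero] at hg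
    have e : ∀ i, V.v i l * V.v i j = (if i ∈ S l hl ∩ S j hj then (1 : ℤ) else 0) +
        (if i = x l hl ∧ i = x j hj then s l hl * s j hj else 0) := fun i => by
      rw [hv l hl, hv j hj]
      by_cases hi : i ∈ V.zeros
      · have h1 : i ≠ x l hl := fun e => hx l hl (e ▸ hi)
        have h2 : i ≠ x j hj := fun e => hx j hj (e ▸ hi)
        by_cases a : i ∈ S l hl <;> by_cases b : i ∈ S j hj <;> simp [h1, h2, a, b, hone i hi]
      · have h1 : i ∉ S l hl := fun e => hi (hS l hl e)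
        have h2 : i ∉ S j hj := fun e => hi (hS j hj e)
        by_cases a : i = x l hl <;> by_cases b : i = x j hj <;> simp [h1, h2, a, b] <;> simp_all
    simp only [e, sum_add_distrib, sum_ite_mem, univ_inter, sum_const, nsmul_one] at hg
    have hle : (S l hl ∩ S j hj).card ≤ 2 := (card_le_card inter_subset_left).trans_eq (hS2 l hl)
    by_cases hxx : x l hl = x j hj
    · right
      rw [sum_eq_single_of_mem (x l hl) (mem_univ _) (fun i _ hi => if_neg fun e => hi e.1),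
        if_pos ⟨rfl, hxx⟩] at hg
      rcases mul_self_eq_one_iff.1 (hs l hl) with a | a <;>
        rcases mul_self_eq_one_iff.1 (hs j hj) with b | b <;> rw [a, b] at hg ⊢ <;>
        norm_num at hg <;> first | omega | exact ⟨hxx, rfl, by omega⟩
    · left
      have h0 : ∑ i, (if i = x l hl ∧ i = x j hj then s l hl * s j hj else 0) = 0 :=
        sum_eq_zero fun i _ => if_neg fun e => hxx (e.1.symm.trans e.2)
      rw [h0, add_zero] at hg
      have hc : (S l hl ∩ S j hj).card = 2 := by exact_mod_cast hg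
      refine ⟨hxx, ?_⟩
      exact (eq_of_subset_of_card_le inter_subset_left (by rw [hc, hS2])).symm.trans
        (eq_of_subset_of_card_le inter_subset_right (by rw [hc, hS2]))
  have hcover : ∀ i, i ∉ V.zeros → ∃ l, ∃ hl, x l hl = i := by
    intro i hi
    by_contra hn
    push Not at hn
    refine V.ne_zero i ?_
    rw [V.dz_eq, hzero i hi, sum_eq_zero fun l hl => ?_]
    · ring
    · rw [hv l hl, if_neg (fun e => hi (hS l hl e)), if_neg (fun e => hn l hl e.symm)]; simp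
  have hdzx : ∀ i, i ∉ V.zeros →
      V.dz i = 2 * ∑ l ∈ (Ico 1 h).attach, (-1) ^ l.1 * if i = x l.1 l.2 then s l.1 l.2 else 0 := by
    intro i hi
    rw [V.dz_eq, hzero i hi, zero_add, ← sum_attach (Ico 1 h)]
    congr 1
    refine sum_congr rfl fun l _ => ?_
    rw [hv l.1 l.2, if_neg (fun e => hi (hS _ _ e)), zero_add]
  have hcard : Fintype.card ι = 4 + V.zerosᶜ.card := by rw [← h4, card_add_card_compl]
  by_cases hinj : ∀ l hl j hj, x l hl = x j hj → l = j
  · have himg : V.zerosᶜ = (Ico 1 h).attach.image fun l => x l.1 l.2 := by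
      ext i
      simp only [mem_compl, mem_image, mem_attach, true_and, Subtype.exists]
      exact ⟨fun hi => hcover i hi, fun ⟨l, hl, e⟩ => e ▸ hx l hl⟩
    have hc : V.zerosᶜ.card = h - 1 := by
      rw [himg, card_image_of_injective _ fun a b e => Subtype.ext (hinj _ _ _ _ e), card_attach,
        Nat.card_Ico]
    have := V.h_pos
    refine ⟨h4, fun i => ?_, by omega, Or.inl (by omega)⟩
    by_contra hi
    have hiz : i ∉ V.zeros := fun e => by have := V.mem_zeros.1 e; omega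
    obtain ⟨l, hl, rfl⟩ := hcover i hiz
    obtain ⟨q, hq⟩ := V.four _ (by omega : 2 ≤ V.ht (x l hl))
    rw [hdzx _ hiz, sum_eq_single_of_mem ⟨l, hl⟩ (mem_attach _ _) (fun j _ hj => by
      rw [if_neg fun e => hj (Subtype.ext (hinj _ _ _ _ e).symm), mul_zero]), if_pos rfl] at hq
    rcases mul_self_eq_one_iff.1 (hs l hl) with a | a <;>
      rcases neg_one_pow_eq_or ℤ l with b | b <;> rw [a, b] at hq <;> omega
  push Not at hinj
  obtain ⟨l0, hl0, j0, hj0, hx0, hne0⟩ := hinj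
  have hlj := ((hpair l0 hl0 j0 hj0 hne0).resolve_left fun e => e.1 hx0).2.2
  have hsame : ∀ k hk, x k hk = x l0 hl0 := by
    intro k hk
    by_contra hne
    have hk1 : k ≠ l0 := fun e => hne (by subst e; rfl)
    have hk2 : k ≠ j0 := fun e => hne (by subst e; exact hx0.symm)
    have e1 := ((hpair k hk l0 hl0 hk1).resolve_right fun e => hne e.1).2
    have e2 := ((hpair k hk j0 hj0 hk2).resolve_right fun e => hne (e.1.trans hx0.symm)).2
    rw [← e1, ← e2, inter_self, hS2] at hlj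
    omega
  have hall : ∀ l hl j hj, l ≠ j → s l hl = s j hj ∧ (S l hl ∩ S j hj).card = 1 := fun l hl j hj hne =>
    ((hpair l hl j hj hne).resolve_left fun e => e.1 ((hsame l hl).trans (hsame j hj).symm)).2
  have hh4 : h = 4 := by
    obtain ⟨k, hk⟩ := V.hh
    rcases k with _ | _ | k
    · simp only [mem_Ico] at hl0 hj0; norm_num at hk; omega
    · simpa using hk
    · exfalso
      have h8 : 8 ≤ h := by
        rw [hk]; exact le_trans (by norm_num) (Nat.pow_le_pow_right two_pos (by omega : 3 ≤ k + 2 + 1))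
      have m : ∀ n, 1 ≤ n → n ≤ 4 → n ∈ Ico 1 h := fun n a b => mem_Ico.2 ⟨a, by omega⟩
      obtain ⟨p, a, b, c, hpa, hpb, hpc, hab, hac, hbc, -, -, -, hthree⟩ := third_pair h4
        (hS 1 (m 1 le_rfl (by omega))) (hS 2 (m 2 (by omega) (by omega)))
        (hS2 _ _) (hS2 _ _) (hall 1 _ 2 _ (by omega)).2
      have h34 := (hall 3 (m 3 (by omega) (by omega)) 4 (m 4 (by omega) le_rfl) (by omega)).2
      have o3 := hthree _ (hS 3 (m 3 (by omega) (by omega))) (hS2 _ _)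
        (hall 1 _ 3 _ (by omega)).2 (hall 2 _ 3 _ (by omega)).2
      have o4 := hthree _ (hS 4 (m 4 (by omega) le_rfl)) (hS2 _ _)
        (hall 1 _ 4 _ (by omega)).2 (hall 2 _ 4 _ (by omega)).2
      obtain ⟨q, hq⟩ := card_eq_one.1 h34
      have qp := Finset.ext_iff.1 hq p
      have qa := Finset.ext_iff.1 hq a
      have qb := Finset.ext_iff.1 hq b
      have qc := Finset.ext_iff.1 hq c
      have qq := Finset.ext_iff.1 hq q
      rcases o3 with e3 | e3 <;> rcases o4 with e4 | e4 <;>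
        simp only [e3, e4, mem_inter, mem_insert, mem_singleton] at qp qa qb qc qq <;> grind
  subst hh4
  have m1 : (1 : ℕ) ∈ Ico 1 4 := by simp
  have m2 : (2 : ℕ) ∈ Ico 1 4 := by simp
  have m3 : (3 : ℕ) ∈ Ico 1 4 := by simp
  set y := x 1 m1 with hy
  set t := s 1 m1 with ht
  have hxy : ∀ l hl, x l hl = y := fun l hl => (hsame l hl).trans (hsame 1 m1).symm
  have hcompl : V.zerosᶜ = {y} := by
    ext i
    rw [mem_compl, mem_singleton]
    exact ⟨fun hi => by obtain ⟨l, hl, e⟩ := hcover i hi; rw [← e, hxy],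
      fun e => e ▸ hx 1 m1⟩
  have hv1 : ∀ i, V.v i 1 = (if i ∈ S 1 m1 then V.v i 4 else 0) + (if i = y then t else 0) :=
    hv 1 m1
  have hv2 : ∀ i, V.v i 2 = (if i ∈ S 2 m2 then V.v i 4 else 0) + (if i = y then t else 0) :=
    fun i => by rw [hv 2 m2 i, hxy, ← (hall 1 m1 2 m2 (by omega)).1]
  have hv3 : ∀ i, V.v i 3 = (if i ∈ S 3 m3 then V.v i 4 else 0) + (if i = y then t else 0) :=
    fun i => by rw [hv 3 m3 i, hxy, ← (hall 1 m1 3 m3 (by omega)).1]
  have hdz : ∀ i, V.dz i = V.v i 4 + 2 * (-V.v i 1 + V.v i 2 - V.v i 3) := fun i => by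
    rw [V.dz_eq, show Ico 1 4 = {1, 2, 3} from rfl, sum_insert (by simp), sum_pair (by omega)]
    ring
  have hyz : V.v y 4 = 0 := hzero y (hx 1 m1)
  have hyS : ∀ l hl, y ∉ S l hl := fun l hl e => hx 1 m1 (hS l hl e)
  have hdzy : V.dz y = -2 * t := by
    rw [hdz, hv1, hv2, hv3, hyz]
    simp [hyS]
  refine ⟨h4, fun i => ?_, by rw [hcard, hcompl, card_singleton]; omega,
    Or.inr ⟨rfl, by rw [hcard, hcompl, card_singleton], fun e hpos he16 horth => ?_⟩⟩
  · by_contra hi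
    have hiz : i ∉ V.zeros := fun e => by have := V.mem_zeros.1 e; omega
    have hiy : i = y := mem_singleton.1 (hcompl ▸ mem_compl.2 hiz)
    subst hiy
    obtain ⟨q, hq⟩ := V.four y (by omega)
    rw [hdzy] at hq
    rcases mul_self_eq_one_iff.1 (show t * t = 1 from hs 1 m1) with a | a <;> rw [a] at hq <;> omega
  obtain ⟨p, a, b, c, hpa, hpb, hpc, hab, hac, hbc, hP, hS1, hS2', hthree⟩ := third_pair h4
    (hS 1 m1) (hS 2 m2) (hS2 _ _) (hS2 _ _) (hall 1 _ 2 _ (by omega)).2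
  have hS3 := hthree _ (hS 3 m3) (hS2 _ _) (hall 1 _ 3 _ (by omega)).2 (hall 2 _ 3 _ (by omega)).2
  have hsplit : ∀ {β : Type} [AddCommMonoid β] (F : ι → β),
      ∑ i, F i = F p + (F a + (F b + F c)) + F y := fun F => by
    rw [← sum_add_sum_compl V.zeros F, hcompl, sum_singleton, hP, sum_insert (by simp [*]),
      sum_insert (by simp [*]), sum_pair hbc]
  have hz : ∀ i ∈ ({p, a, b, c} : Finset ι), i ∈ V.zeros := fun i hi => hP ▸ hi
  have hp1 := hone p (hz p (by simp))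
  have ha1 := hone a (hz a (by simp))
  have hb1 := hone b (hz b (by simp))
  have hc1 := hone c (hz c (by simp))
  have hny : ∀ i ∈ ({p, a, b, c} : Finset ι), i ≠ y := fun i hi e => hx 1 m1 (show y ∈ V.zeros from e ▸ hz i hi)
  have npy := hny p (by simp)
  have nay := hny a (by simp)
  have nby := hny b (by simp)
  have ncy := hny c (by simp)
  have q1 := horth 1 (by simp)
  have q2 := horth 2 (by simp)
  have q3 := horth 3 (by simp)
  have q4 := horth 4 (by simp)
  rw [hsplit] at q1 q2 q3 q4 he16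
  rw [hsplit]
  rw [hyz] at q4
  simp only [hdzy, hdz, hv1, hv2, hv3]
  simp only [hv1, hv2, hv3, hyz] at q1 q2 q3
  have ht1 : t * t = 1 := hs 1 m1
  have h16 : (e p : ℤ) ^ 2 + ((e a : ℤ) ^ 2 + ((e b : ℤ) ^ 2 + (e c : ℤ) ^ 2)) +
      (e y : ℤ) ^ 2 = 16 := by exact_mod_cast he16
  have hsq : ∀ {u : ℤ}, u * u = 1 → ∀ {n : ℕ} {m A : ℤ}, u * n = m * A → A * A = 1 → 0 ≤ m →
      (n : ℤ) = m ∧ (u * m = m * A) := fun {u} hu {n m A} hun hA hm => by
    have h1 : (n : ℤ) * n = m * m := by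
      linear_combination (-((n : ℤ) * n)) * hu + (m * m) * hA + (u * (n : ℤ) + m * A) * hun
    have h2 : (n : ℤ) = m := (mul_self_inj (Int.natCast_nonneg n) hm).1 h1
    exact ⟨h2, h2 ▸ hun⟩
  rcases hS3 with hS3 | hS3
  · simp only [hS1, hS2', hS3, mem_insert, mem_singleton, hpa, hpb, hpc, hab, hac, hbc, hpa.symm,
      hpb.symm, hpc.symm, hab.symm, hac.symm, hbc.symm, npy, nay, nby, ncy, npy.symm, nay.symm,
      nby.symm, ncy.symm, or_false, false_or, or_true, true_or, if_true, if_false, add_zero,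
      zero_add, zero_mul] at q1 q2 q3 q4 ⊢
    set A := V.v a 4 * (e a : ℤ) with hA
    have hB : V.v b 4 * (e b : ℤ) = A := by linarith
    have hC : V.v c 4 * (e c : ℤ) = A := by linarith
    have hP' : V.v p 4 * (e p : ℤ) = 3 * -A := by linarith
    have hY : t * (e y : ℤ) = 2 * A := by linarith
    have sA : A * A = 1 := by
      have k : 16 * (A * A) = 16 := by
          linear_combination h16 + (e p : ℤ) ^ 2 * hp1 + (e a : ℤ) ^ 2 * ha1 +
            (e b : ℤ) ^ 2 * hb1 + (e c : ℤ) ^ 2 * hc1 + (e y : ℤ) ^ 2 * ht1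
            + (-1 : ℤ) * (V.v p 4 * (e p : ℤ) + 3 * -A) * hP'
            + (-1 : ℤ) * (V.v b 4 * (e b : ℤ) + A) * hB
            + (-1 : ℤ) * (V.v c 4 * (e c : ℤ) + A) * hC
            + (-1 : ℤ) * (t * (e y : ℤ) + 2 * A) * hY
            + (-1 : ℤ) * (V.v a 4 * (e a : ℤ) + A) * hA.symm
      omega
    obtain ⟨ep, up⟩ := hsq hp1 hP' (by rw [neg_mul_neg]; exact sA) (by norm_num)
    obtain ⟨ea, ua⟩ := hsq ha1 (show _ = 1 * A by rw [one_mul]) sA (by norm_num)
    obtain ⟨eb, ub⟩ := hsq hb1 (show _ = 1 * A by rw [one_mul]; exact hB) sA (by norm_num)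
    obtain ⟨ec, uc⟩ := hsq hc1 (show _ = 1 * A by rw [one_mul]; exact hC) sA (by norm_num)
    obtain ⟨ey, uy⟩ := hsq ht1 hY sA (by norm_num)
    replace up : V.v p 4 = -A := by linarith
    replace uy : t = A := by linarith
    rw [mul_one, one_mul] at ua ub uc
    have qp : (e p : ℚ) = 3 := by exact_mod_cast ep
    have qa : (e a : ℚ) = 1 := by exact_mod_cast ea
    have qb : (e b : ℚ) = 1 := by exact_mod_cast eb
    have qc : (e c : ℚ) = 1 := by exact_mod_cast ec
    have qy : (e y : ℚ) = 2 := by exact_mod_cast ey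
    refine ⟨⟨a, V.mem_zeros.1 (hz a (by simp)), by exact_mod_cast ea⟩, ?_⟩
    rw [up, ua, ub, uc, uy, qp, qa, qb, qc, qy]
    rcases mul_self_eq_one_iff.1 sA with u | u <;> rw [u] <;> norm_num
  · simp only [hS1, hS2', hS3, mem_insert, mem_singleton, hpa, hpb, hpc, hab, hac, hbc, hpa.symm,
      hpb.symm, hpc.symm, hab.symm, hac.symm, hbc.symm, npy, nay, nby, ncy, npy.symm, nay.symm,
      nby.symm, ncy.symm, or_false, false_or, or_true, true_or, if_true, if_false, add_zero,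
      zero_add, zero_mul] at q1 q2 q3 q4 ⊢
    set A := V.v a 4 * (e a : ℤ) with hA
    have hB : V.v b 4 * (e b : ℤ) = A := by linarith
    have hP' : V.v p 4 * (e p : ℤ) = A := by linarith
    have hC : V.v c 4 * (e c : ℤ) = 3 * -A := by linarith
    have hY : t * (e y : ℤ) = 2 * -A := by linarith
    have sA : A * A = 1 := by
      have k : 16 * (A * A) = 16 := by
        linear_combination h16 + (e p : ℤ) ^ 2 * hp1 + (e a : ℤ) ^ 2 * ha1 +
          (e b : ℤ) ^ 2 * hb1 + (e c : ℤ) ^ 2 * hc1 + (e y : ℤ) ^ 2 * ht1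
          + (-1 : ℤ) * (V.v p 4 * (e p : ℤ) + A) * hP'
          + (-1 : ℤ) * (V.v b 4 * (e b : ℤ) + A) * hB
          + (-1 : ℤ) * (V.v c 4 * (e c : ℤ) + 3 * -A) * hC
          + (-1 : ℤ) * (t * (e y : ℤ) + 2 * -A) * hY
          + (-1 : ℤ) * (V.v a 4 * (e a : ℤ) + A) * hA.symm
      omega
    have sN : -A * -A = 1 := by rw [neg_mul_neg]; exact sA
    obtain ⟨ep, up⟩ := hsq hp1 (show _ = 1 * A by rw [one_mul]; exact hP') sA (by norm_num)
    obtain ⟨ea, ua⟩ := hsq ha1 (show _ = 1 * A by rw [one_mul]) sA (by norm_num)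
    obtain ⟨eb, ub⟩ := hsq hb1 (show _ = 1 * A by rw [one_mul]; exact hB) sA (by norm_num)
    obtain ⟨ec, uc⟩ := hsq hc1 hC sN (by norm_num)
    obtain ⟨ey, uy⟩ := hsq ht1 hY sN (by norm_num)
    replace uc : V.v c 4 = -A := by linarith
    replace uy : t = -A := by linarith
    rw [mul_one, one_mul] at ua ub up
    have qp : (e p : ℚ) = 1 := by exact_mod_cast ep
    have qa : (e a : ℚ) = 1 := by exact_mod_cast ea
    have qb : (e b : ℚ) = 1 := by exact_mod_cast eb
    have qc : (e c : ℚ) = 3 := by exact_mod_cast ec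
    have qy : (e y : ℚ) = 2 := by exact_mod_cast ey
    refine ⟨⟨a, V.mem_zeros.1 (hz a (by simp)), by exact_mod_cast ea⟩, ?_⟩
    rw [up, ua, ub, uc, uy, qp, qa, qb, qc, qy]
    rcases mul_self_eq_one_iff.1 sA with u | u <;> rw [u] <;> norm_num

end Data

end CfsgLib.DihDefect.Vectors
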